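import Cfsg.Agent.Char.Basic
import Mathlib.FieldTheory.Extension
import Mathlib.FieldTheory.AlgebraicClosure
import Mathlib.RingTheory.IntegralClosure.Algebra.Basic
import Mathlib.RingTheory.IntegralClosure.IntegrallyClosed
import Mathlib.Algebra.GCDMonoid.IntegrallyClosed
import Mathlib.Algebra.GCDMonoid.Nat
import Mathlib.FieldTheory.Minpoly.IsIntegrallyClosed
import Mathlib.GroupTheory.Solvable
import Mathlib.GroupTheory.PGroup
import Mathlib.GroupTheory.Nilpotent
import Mathlib.GroupTheory.Sylow

/-!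
Integrality of characters, degrees divide the order, Burnside's theorems.
-/

set_option autoImplicit false
set_option linter.all false

open scoped ComplexConjugate
open Representation Module

namespace Cfsg.Agent.Char

universe u v

/-! ### Sums of roots of unity -/

theorem all_eq_of_norm_sum_eq {d : ℕ} {ω : Fin d → ℂ} (h1 : ∀ i, ‖ω i‖ = 1)
    (hs : ‖∑ i, ω i‖ = d) (i j : Fin d) : ω i = ω j := by
  set S := ∑ i, ω i with hS
  have hd : 0 < d := Fin.pos i
  have hle : ∀ k, (conj S * ω k).re ≤ d := fun k => by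
    refine (Complex.re_le_norm _).trans ?_
    rw [norm_mul, RCLike.norm_conj, h1, hs, mul_one]
  have hsum : ∑ k, (conj S * ω k).re = ∑ k : Fin d, (d : ℝ) := by
    rw [← Complex.re_sum, ← Finset.mul_sum, ← hS, ← Complex.normSq_eq_conj_mul_self]
    simp [Complex.normSq_eq_norm_sq, hs, sq]
  have heq := (Finset.sum_eq_sum_iff_of_le fun k _ => hle k).1 hsum
  have hval : ∀ k, conj S * ω k = (d : ℂ) := fun k => by
    have hre := heq k (Finset.mem_univ _)
    have hn : ‖conj S * ω k‖ = d := by rw [norm_mul, RCLike.norm_conj, h1, hs, mul_one]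
    have h2 := Complex.sq_norm_sub_sq_re (conj S * ω k)
    rw [hn, hre, sub_self] at h2
    apply Complex.ext
    · simpa using hre
    · simp only [Complex.natCast_im]
      exact pow_eq_zero_iff two_ne_zero |>.1 h2.symm
  have hS0 : conj S ≠ 0 := by
    intro h
    have : ‖conj S‖ = 0 := by simp [h]
    rw [RCLike.norm_conj, hs] at this
    exact hd.ne' (by exact_mod_cast this)
  exact mul_left_cancel₀ hS0 ((hval i).trans (hval j).symm)

theorem isIntegral_rootOfUnity {z : ℂ} {n : ℕ} (hn : 0 < n) (hz : z ^ n = 1) : IsIntegral ℤ z :=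
  IsIntegral.of_pow hn (by rw [hz]; exact isIntegral_one)

/-- A rational number that is an algebraic integer is an integer. -/
theorem exists_int_of_isIntegral {q : ℚ} (h : IsIntegral ℤ (q : ℂ)) : ∃ m : ℤ, q = m := by
  have h' : IsIntegral ℤ q := IsIntegral.tower_bot (R := ℤ) (A := ℚ) (B := ℂ)
    (algebraMap ℚ ℂ).injective (by simpa using h)
  obtain ⟨m, hm⟩ := IsIntegrallyClosed.isIntegral_iff.1 h'
  exact ⟨m, by simpa using hm.symm⟩

theorem nat_dvd_of_isIntegral {a b : ℕ} (hb : b ≠ 0) (h : IsIntegral ℤ ((a : ℂ) / b)) : b ∣ a := by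
  obtain ⟨m, hm⟩ := exists_int_of_isIntegral (q := (a : ℚ) / b) (by push_cast; exact h)
  rw [div_eq_iff (by exact_mod_cast hb)] at hm
  have : (b : ℤ) ∣ (a : ℤ) := ⟨m, by exact_mod_cast (hm.trans (mul_comm _ _))⟩
  exact_mod_cast this

/-- An algebraic integer which is an average of roots of unity is zero or of absolute value one. -/
theorem sum_rootsOfUnity_eq_zero_or_norm {d n : ℕ} (hn : 0 < n) {ω : Fin d → ℂ}
    (hω : ∀ i, ω i ^ n = 1) (hint : IsIntegral ℤ ((∑ i, ω i) / (d : ℂ))) :
    ∑ i, ω i = 0 ∨ ‖∑ i, ω i‖ = d := by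
  by_cases h0 : ∑ i, ω i = 0
  · exact Or.inl h0
  right
  set a := (∑ i, ω i) / (d : ℂ) with ha
  have hdpos : 0 < d := by
    rcases Nat.eq_zero_or_pos d with rfl | hd
    · simp at h0
    · exact hd
  have hd : (d : ℂ) ≠ 0 := by exact_mod_cast hdpos.ne'
  have ha0 : a ≠ 0 := div_ne_zero h0 hd
  have hQ : IsIntegral ℚ a := hint.tower_top
  have hm : minpoly ℚ a = (minpoly ℤ a).map (algebraMap ℤ ℚ) :=
    minpoly.isIntegrallyClosed_eq_field_fractions' ℚ hint
  have hroots : ∀ β ∈ (minpoly ℚ a).aroots ℂ, ‖β‖ ≤ 1 := by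
    intro β hβ
    rw [Polynomial.mem_aroots] at hβ
    let K := algebraicClosure ℚ ℂ
    have hmem : ∀ i, ω i ∈ K := fun i =>
      mem_algebraicClosure_iff'.2 (IsIntegral.of_pow hn (by rw [hω i]; exact isIntegral_one))
    have haK : a ∈ K := mem_algebraicClosure_iff'.2 hQ
    obtain ⟨σ, hσ⟩ := IntermediateField.exists_algHom_of_splits_of_aeval (E := K) (F := ℚ) (K := ℂ)
      (x := (⟨a, haK⟩ : K)) (y := β)
      (fun x => ⟨IntermediateField.isIntegral_iff.2 (mem_algebraicClosure_iff'.1 x.2), IsAlgClosed.splits _⟩)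
      (by rw [IntermediateField.minpoly_eq]; exact hβ.2)
    have hsum : (⟨a, haK⟩ : K) = (∑ i, (⟨ω i, hmem i⟩ : K)) / (d : K) := by
      apply Subtype.ext
      push_cast
      rw [ha]
    rw [← hσ, hsum, map_div₀, map_sum, map_natCast, norm_div, Complex.norm_natCast,
      div_le_one (by exact_mod_cast hdpos)]
    refine (norm_sum_le _ _).trans (le_of_eq ?_)
    have : ∀ i, ‖σ (⟨ω i, hmem i⟩ : K)‖ = 1 := fun i => by
      refine Complex.norm_eq_one_of_pow_eq_one (n := n) ?_ hn.ne'
      rw [← map_pow, ← map_one σ]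
      exact congrArg σ (Subtype.ext (by simp [hω i]))
    simp [this]
  have hsplit : ((minpoly ℚ a).map (algebraMap ℚ ℂ)).Splits := IsAlgClosed.splits _
  have hmonic : ((minpoly ℚ a).map (algebraMap ℚ ℂ)).Monic :=
    (minpoly.monic hQ).map _
  have hprod := hsplit.coeff_zero_eq_prod_roots_of_monic hmonic
  have hc : 1 ≤ ‖((minpoly ℚ a).map (algebraMap ℚ ℂ)).coeff 0‖ := by
    have hne : (minpoly ℤ a).coeff 0 ≠ 0 := fun h => by
      apply minpoly.coeff_zero_ne_zero hQ ha0
      simp [hm, h]
    rw [Polynomial.coeff_map, hm, Polynomial.coeff_map]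
    simp only [eq_intCast, map_intCast, Complex.norm_intCast]
    exact_mod_cast Int.one_le_abs hne
  have hamem : a ∈ (minpoly ℚ a).aroots ℂ :=
    Polynomial.mem_aroots.2 ⟨minpoly.ne_zero hQ, minpoly.aeval ℚ a⟩
  rw [hprod] at hc
  simp only [norm_mul, norm_pow, norm_neg, norm_one, one_pow, one_mul] at hc
  have key : ∀ s : Multiset ℂ, (∀ β ∈ s, ‖β‖ ≤ 1) → ‖s.prod‖ ≤ 1 := by
    intro s
    induction s using Multiset.induction_on with
    | empty => simp
    | cons x t ih =>
      intro h
      rw [Multiset.prod_cons, norm_mul]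
      exact mul_le_one₀ (h x (Multiset.mem_cons_self _ _)) (norm_nonneg _)
        (ih fun β hβ => h β (Multiset.mem_cons_of_mem hβ))
  obtain ⟨t, ht⟩ := Multiset.exists_cons_of_mem hamem
  have hts : ∀ β ∈ t, ‖β‖ ≤ 1 := fun β hβ => hroots β (by rw [ht]; exact Multiset.mem_cons_of_mem hβ)
  change 1 ≤ ‖((minpoly ℚ a).aroots ℂ).prod‖ at hc
  rw [ht, Multiset.prod_cons, norm_mul] at hc
  have ha1 : 1 ≤ ‖a‖ := hc.trans (mul_le_of_le_one_right (norm_nonneg _) (key t hts))
  have ha2 : ‖a‖ ≤ 1 := hroots a hamem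
  have : ‖a‖ = 1 := le_antisymm ha2 ha1
  rw [ha, norm_div, Complex.norm_natCast, div_eq_one_iff_eq (by exact_mod_cast hdpos.ne')] at this
  exact this

/-! ### Characters are algebraic integers -/

variable {G : Type u} [Group G]

section Rep

variable {V : Type v} [AddCommGroup V] [Module ℂ V] [FiniteDimensional ℂ V]

theorem isIntegral_char [Finite G] (ρ : Representation ℂ G V) (g : G) :
    IsIntegral ℤ (ρ.character g) := by
  obtain ⟨b, ω, hb, hω⟩ := exists_eigenbasis ρ g (isOfFinOrder_of_finite g)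
  rw [Representation.character, trace_of_eigenbasis _ b ω hb]
  exact IsIntegral.sum _ fun i _ => isIntegral_rootOfUnity (orderOf_pos g) (hω i)

theorem card_conj_set [Finite G] [Fintype G] (g : G) [DecidablePred (IsConj g)] :
    (Finset.univ.filter fun x => IsConj g x).card = (Subgroup.centralizer ({g} : Set G)).index := by
  rw [Subgroup.centralizer_eq_comap_stabilizer]
  refine Eq.trans ?_ (Subgroup.index_comap_of_surjective (MulAction.stabilizer (ConjAct G) g)
    (f := (ConjAct.toConjAct (G := G)).toMonoidHom) ConjAct.toConjAct.surjective).symm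
  rw [MulAction.index_stabilizer, ConjAct.orbit_eq_carrier_conjClasses, ← Set.ncard_coe_finset]
  congr 1
  ext x
  rw [Finset.coe_filter, Set.mem_setOf_eq, ConjClasses.mem_carrier_iff_mk_eq,
    ConjClasses.mk_eq_mk_iff_isConj]
  simp only [Finset.mem_univ, true_and]
  exact isConj_comm

/-- The central character value is an algebraic integer. -/
theorem isIntegral_centralValue [Finite G] (ρ : Representation ℂ G V) [ρ.IsIrreducible] (g : G) :
    IsIntegral ℤ (((Subgroup.centralizer ({g} : Set G)).index : ℂ) * ρ.character g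
      / (finrank ℂ V : ℂ)) := by
  classical
  haveI := Fintype.ofFinite G
  let S : Finset G := Finset.univ.filter fun x => IsConj g x
  let T : Module.End ℂ V := ∑ x ∈ S, ρ x
  haveI : Module.Finite ℤ (MonoidAlgebra ℤ G) := Module.Finite.of_basis (MonoidAlgebra.basis G ℤ)
  let A : MonoidAlgebra ℤ G →ₐ[ℤ] Module.End ℂ V := MonoidAlgebra.lift ℤ (Module.End ℂ V) G ρ
  have hT : IsIntegral ℤ T := by
    have := (IsIntegral.of_finite ℤ (∑ x ∈ S, MonoidAlgebra.single x (1 : ℤ))).map A
    simpa [A, T] using this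
  have hcomm : ∀ y, T * ρ y = ρ y * T := by
    intro y
    simp only [T, Finset.sum_mul, Finset.mul_sum, ← map_mul]
    refine Finset.sum_nbij' (fun x => y⁻¹ * x * y) (fun x => y * x * y⁻¹) ?_ ?_ ?_ ?_ ?_
    · intro x hx
      simp only [S, Finset.mem_filter_univ] at hx ⊢
      exact hx.trans (isConj_iff.2 ⟨y⁻¹, by simp⟩)
    · intro x hx
      simp only [S, Finset.mem_filter_univ] at hx ⊢
      exact hx.trans (isConj_iff.2 ⟨y, rfl⟩)
    · intro x _; simp [mul_assoc]
    · intro x _; simp [mul_assoc]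
    · intro x _; simp [mul_assoc]
  obtain ⟨c, hc⟩ := exists_smul_id_of_commute ρ T hcomm
  haveI := nontrivial_of_isIrreducible ρ
  have hcint : IsIntegral ℤ c := by
    have hinj : Function.Injective (algebraMap ℂ (Module.End ℂ V)) := (algebraMap ℂ _).injective
    refine (isIntegral_algebraMap_iff hinj).1 ?_
    rw [hc] at hT
    rw [Algebra.algebraMap_eq_smul_one]
    exact hT
  have htr : LinearMap.trace ℂ V T
      = ((Subgroup.centralizer ({g} : Set G)).index : ℂ) * ρ.character g := by
    rw [← card_conj_set g, map_sum, ← nsmul_eq_mul, ← Finset.sum_const]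
    refine Finset.sum_congr rfl fun x hx => ?_
    simp only [S, Finset.mem_filter_univ] at hx
    obtain ⟨y, rfl⟩ := isConj_iff.1 hx
    exact ρ.char_conj g y
  rw [← htr, hc, map_smul, LinearMap.trace_id, smul_eq_mul,
    mul_div_assoc, div_self (by exact_mod_cast (finrank_pos_of_isIrreducible ρ).ne'), mul_one]
  exact hcint

/-- The degree of an irreducible representation divides the group order. -/
theorem finrank_dvd_card [Finite G] (ρ : Representation ℂ G V) [ρ.IsIrreducible] :
    finrank ℂ V ∣ Nat.card G := by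
  classical
  haveI := Fintype.ofFinite G
  haveI : Finite (ConjClasses G) := Finite.of_surjective _ ConjClasses.mk_surjective
  haveI := Fintype.ofFinite (ConjClasses G)
  refine nat_dvd_of_isIntegral (finrank_pos_of_isIrreducible ρ).ne' ?_
  have h1 := classInner_irr_self (⟨ρ.character, isIrrCharacter_of_rep ρ⟩ : Cfsg.IrrCharacter G)
  simp only [Cfsg.classInner] at h1
  rw [inv_mul_eq_iff_eq_mul₀ (by exact_mod_cast Nat.card_pos.ne'), mul_one] at h1
  rw [← h1, ← Finset.sum_fiberwise Finset.univ ConjClasses.mk, Finset.sum_div]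
  refine IsIntegral.sum _ fun C _ => ?_
  obtain ⟨g, rfl⟩ := ConjClasses.mk_surjective C
  have hfilter : (Finset.univ.filter fun x => ConjClasses.mk x = ConjClasses.mk g)
      = Finset.univ.filter fun x => IsConj g x := by
    refine Finset.filter_congr fun x _ => ?_
    rw [ConjClasses.mk_eq_mk_iff_isConj]
    exact isConj_comm
  have hterm : ∀ x ∈ Finset.univ.filter (fun x => IsConj g x),
      ρ.character x * conj (ρ.character x) = ρ.character g * conj (ρ.character g) := by
    intro x hx
    simp only [Finset.mem_filter_univ] at hx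
    obtain ⟨y, rfl⟩ := isConj_iff.1 hx
    rw [ρ.char_conj]
  rw [hfilter, Finset.sum_congr rfl hterm, Finset.sum_const, card_conj_set, nsmul_eq_mul,
    ← char_inv, ← mul_assoc, mul_div_right_comm]
  exact (isIntegral_centralValue ρ g).mul (isIntegral_char ρ g⁻¹)

theorem norm_char_eq_iff [Finite G] (ρ : Representation ℂ G V) (g : G) :
    ‖ρ.character g‖ = (finrank ℂ V : ℝ) ↔ ∃ c : ℂ, ρ g = c • (LinearMap.id : V →ₗ[ℂ] V) := by
  obtain ⟨b, ω, hb, hω⟩ := exists_eigenbasis ρ g (isOfFinOrder_of_finite g)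
  have hn : ∀ i, ‖ω i‖ = 1 := fun i =>
    Complex.norm_eq_one_of_pow_eq_one (hω i) (orderOf_pos g).ne'
  rw [Representation.character, trace_of_eigenbasis _ b ω hb]
  constructor
  · intro h
    rcases Nat.eq_zero_or_pos (finrank ℂ V) with h0 | h0
    · haveI : Subsingleton V := Module.finrank_zero_iff.1 h0
      exact ⟨1, Subsingleton.elim _ _⟩
    · refine ⟨ω ⟨0, h0⟩, b.ext fun i => ?_⟩
      rw [hb i, all_eq_of_norm_sum_eq hn h i ⟨0, h0⟩]
      simp
  · rintro ⟨c, hc⟩
    have : ∀ i, ω i = c := fun i => by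
      have h := hb i
      rw [hc] at h
      exact (smul_left_injective ℂ (b.ne_zero i) h).symm
    rcases Nat.eq_zero_or_pos (finrank ℂ V) with h0 | h0
    · haveI : IsEmpty (Fin (finrank ℂ V)) := by rw [h0]; infer_instance
      simp [h0]
    · have hc1 : ‖c‖ = 1 := this ⟨0, h0⟩ ▸ hn ⟨0, h0⟩
      simp [this, hc1]

/-- Burnside: if the degree is prime to the class size then the character vanishes or the element
acts as a scalar. -/
theorem char_eq_zero_or_norm_eq [Finite G] (ρ : Representation ℂ G V) [ρ.IsIrreducible] (g : G)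
    (hcop : Nat.Coprime (finrank ℂ V) (Subgroup.centralizer ({g} : Set G)).index) :
    ρ.character g = 0 ∨ ‖ρ.character g‖ = (finrank ℂ V : ℝ) := by
  obtain ⟨b, ω, hb, hω⟩ := exists_eigenbasis ρ g (isOfFinOrder_of_finite g)
  have h : IsIntegral ℤ (ρ.character g / (finrank ℂ V : ℂ)) := by
    have hd : (finrank ℂ V : ℂ) ≠ 0 := by exact_mod_cast (finrank_pos_of_isIrreducible ρ).ne'
    set d := finrank ℂ V
    set k := (Subgroup.centralizer ({g} : Set G)).index
    have hbez := Nat.gcd_eq_gcd_ab d k
    rw [hcop.gcd_eq_one] at hbez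
    have hbezC : (1 : ℂ) = (d : ℂ) * (Nat.gcdA d k : ℂ) + (k : ℂ) * (Nat.gcdB d k : ℂ) := by
      exact_mod_cast hbez
    have he : ρ.character g / (d : ℂ) = (Nat.gcdA d k : ℂ) * ρ.character g
        + (Nat.gcdB d k : ℂ) * ((k : ℂ) * ρ.character g / d) := by
      rw [eq_comm, ← mul_one (ρ.character g / (d : ℂ)), hbezC]
      field_simp
    rw [he]
    exact ((isIntegral_algebraMap (x := (Nat.gcdA d k : ℤ))).mul (isIntegral_char ρ g)).add
      ((isIntegral_algebraMap (x := (Nat.gcdB d k : ℤ))).mul (isIntegral_centralValue ρ g))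
  rw [Representation.character, trace_of_eigenbasis _ b ω hb] at h ⊢
  exact sum_rootsOfUnity_eq_zero_or_norm (orderOf_pos g) hω h

end Rep

/-- A noncommutative simple group is perfect. -/
theorem commutator_eq_top_of_simple [IsSimpleGroup G] (hna : ¬ ∀ a b : G, a * b = b * a) :
    commutator G = ⊤ := by
  rcases Subgroup.Normal.eq_bot_or_eq_top (inferInstance : (commutator G).Normal) with h | h
  · refine absurd (fun a b => ?_) hna
    have : a * b * a⁻¹ * b⁻¹ ∈ commutator G :=
      Subgroup.commutator_mem_commutator (Subgroup.mem_top a) (Subgroup.mem_top b)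
    rw [h, Subgroup.mem_bot] at this
    calc a * b = a * b * a⁻¹ * b⁻¹ * (b * a) := by group
      _ = b * a := by rw [this, one_mul]
  · exact h

/-- The elements acting as scalars in a representation. -/
def scalarSubgroup {V : Type v} [AddCommGroup V] [Module ℂ V] (ρ : Representation ℂ G V) :
    Subgroup G where
  carrier := {x | ∀ y, ρ x * ρ y = ρ y * ρ x}
  one_mem' := fun y => by simp
  mul_mem' := fun {a b} ha hb y => by
    show ρ (a * b) * ρ y = ρ y * ρ (a * b)
    rw [map_mul, mul_assoc, hb y, ← mul_assoc, ha y, mul_assoc]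
  inv_mem' := fun {a} ha y => by
    show ρ a⁻¹ * ρ y = ρ y * ρ a⁻¹
    calc ρ a⁻¹ * ρ y = ρ a⁻¹ * (ρ y * ρ a) * ρ a⁻¹ := by
          rw [mul_assoc, mul_assoc, ← map_mul ρ a a⁻¹, mul_inv_cancel, map_one, mul_one]
      _ = ρ a⁻¹ * (ρ a * ρ y) * ρ a⁻¹ := by rw [ha y]
      _ = ρ y * ρ a⁻¹ := by rw [← mul_assoc, ← map_mul, inv_mul_cancel, map_one, one_mul]

theorem scalarSubgroup_normal {V : Type v} [AddCommGroup V] [Module ℂ V]
    (ρ : Representation ℂ G V) : (scalarSubgroup ρ).Normal := by
  refine ⟨fun x hx g y => ?_⟩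
  have : ρ (g * x * g⁻¹) = ρ x := by
    rw [map_mul, map_mul, ← hx g, mul_assoc, ← map_mul, mul_inv_cancel, map_one, mul_one]
  rw [this]
  exact hx y

/-- Burnside: a simple group with a class of prime power size has prime order. -/
theorem prime_card_of_class_prime_pow [Finite G] [IsSimpleGroup G] (p k : ℕ) (hp : p.Prime)
    (g : G) (hg : g ≠ 1) (hclass : (Subgroup.centralizer ({g} : Set G)).index = p ^ k) :
    (Nat.card G).Prime := by
  classical
  by_cases hab : ∀ a b : G, a * b = b * a
  · letI : CommGroup G := { ‹Group G› with mul_comm := hab }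
    exact IsSimpleGroup.prime_card
  exfalso
  have hperf := commutator_eq_top_of_simple hab
  have hk : k ≠ 0 := by
    rintro rfl
    rw [pow_zero, Subgroup.index_eq_one, Subgroup.centralizer_eq_top_iff_subset,
      Set.singleton_subset_iff] at hclass
    rcases Subgroup.Normal.eq_bot_or_eq_top (inferInstance : (Subgroup.center G).Normal) with h | h
    · exact hg (by simpa [h] using hclass)
    · exact hab fun a b => (Subgroup.mem_center_iff.1 (h ▸ Subgroup.mem_top b) a)
  have hvan : ∀ χ : Cfsg.IrrCharacter G, χ ≠ oneIrr G →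
      IsIntegral ℤ ((χ : G → ℂ) 1 * (χ : G → ℂ) g / (p : ℂ)) := by
    intro χ hχ
    obtain ⟨n, ρ, hρ, he⟩ := χ.2
    rw [← he]
    have hn : finrank ℂ (Fin n → ℂ) = n := Module.finrank_fin_fun ℂ
    rw [Representation.char_one, hn]
    by_cases hpn : p ∣ n
    · obtain ⟨m, rfl⟩ := hpn
      have hp0 : (p : ℂ) ≠ 0 := by exact_mod_cast hp.pos.ne'
      rw [Nat.cast_mul, mul_assoc, mul_div_cancel_left₀ _ hp0]
      exact (isIntegral_algebraMap (x := (m : ℤ))).mul (isIntegral_char ρ g) |> (by simpa using ·)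
    · have hcop : Nat.Coprime (finrank ℂ (Fin n → ℂ)) (Subgroup.centralizer ({g} : Set G)).index := by
        rw [hn, hclass]
        exact ((hp.coprime_iff_not_dvd.2 hpn).pow_left k).symm
      rcases char_eq_zero_or_norm_eq ρ g hcop with h0 | h0
      · rw [h0]; simpa using isIntegral_zero
      · exfalso
        obtain ⟨c, hc⟩ := (norm_char_eq_iff ρ g).1 h0
        have hgS : g ∈ scalarSubgroup ρ := fun y => by
          rw [hc]; exact LinearMap.ext fun v => by simp
        have htop : scalarSubgroup ρ = ⊤ := by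
          rcases (scalarSubgroup_normal ρ).eq_bot_or_eq_top with h | h
          · exact absurd (Subgroup.mem_bot.1 (h ▸ hgS)) hg
          · exact h
        have hker : (⊤ : Subgroup G) ≤ MonoidHom.ker ρ := by
          rw [← hperf, commutator_def, Subgroup.commutator_le]
          intro a _ b _
          have hab' : ρ a * ρ b = ρ b * ρ a :=
            (htop ▸ Subgroup.mem_top a : a ∈ scalarSubgroup ρ) b
          rw [MonoidHom.mem_ker, commutatorElement_def, map_mul, map_mul, map_mul, hab', mul_assoc (ρ b),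
            ← map_mul, mul_inv_cancel, map_one, mul_one, ← map_mul, mul_inv_cancel, map_one]
        have htriv : ∀ x, ρ x = 1 := fun x => MonoidHom.mem_ker.1 (hker (Subgroup.mem_top x))
        apply hχ
        have hconst : ∀ x, (χ : G → ℂ) x = (n : ℂ) := fun x => by
          rw [← he]
          show LinearMap.trace ℂ _ (ρ x) = _
          rw [htriv x, LinearMap.trace_one, hn]
        haveI := Fintype.ofFinite G
        have h1 := classInner_irr_self χ
        simp [Cfsg.classInner, hconst, Nat.card_eq_fintype_card] at h1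
        have hn1 : n = 1 := by exact_mod_cast (Nat.mul_self_inj (n := 1)).1 (by exact_mod_cast h1)
        exact Subtype.ext (funext fun x => by simp [hconst, hn1])
  have hsum := sum_irr_apply_one_mul g
  rw [if_neg hg, ← Finset.add_sum_erase _ _ (Finset.mem_univ (oneIrr G))] at hsum
  simp only [oneIrr_apply, mul_one] at hsum
  have hint : IsIntegral ℤ ((1 : ℂ) / (p : ℂ)) := by
    have h2 : (1 : ℂ) / p = - ∑ χ ∈ Finset.univ.erase (oneIrr G),
        (χ : G → ℂ) 1 * (χ : G → ℂ) g / (p : ℂ) := by
      rw [← Finset.sum_div, ← neg_div, eq_neg_of_add_eq_zero_left hsum]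
    rw [h2]
    exact (IsIntegral.sum _ fun χ hχ => hvan χ (Finset.ne_of_mem_erase hχ)).neg
  exact hp.one_lt.ne' (Nat.dvd_one.1 (nat_dvd_of_isIntegral hp.pos.ne' (by simpa using hint)))

/-- Burnside's `p^a q^b` theorem. -/
theorem isSolvable_of_card_eq_pow_mul_pow (G : Type u) [Group G] [Finite G] {p q a b : ℕ}
    (hp : p.Prime) (hq : q.Prime) (hcard : Nat.card G = p ^ a * q ^ b) : Group.IsSolvable G := by
  suffices h : ∀ n : ℕ, ∀ (G : Type u) [Group G] [Finite G], Nat.card G = n → n ∣ p ^ a * q ^ b →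
      Group.IsSolvable G from h _ G rfl (hcard ▸ dvd_rfl)
  intro n
  induction n using Nat.strong_induction_on with
  | _ n ih =>
    intro G _ _ hn hdvd
    rcases subsingleton_or_nontrivial G with hG | hG
    · infer_instance
    by_cases hs : ∃ N : Subgroup G, N.Normal ∧ N ≠ ⊥ ∧ N ≠ ⊤
    · obtain ⟨N, hN, hN0, hN1⟩ := hs
      have hmul : Nat.card (G ⧸ N) * Nat.card N = n :=
        hn ▸ (Subgroup.card_eq_card_quotient_mul_card_subgroup N).symm
      have h1 : 1 < Nat.card N := Subgroup.one_lt_card_iff_ne_bot N |>.2 hN0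
      have h2 : 1 < Nat.card (G ⧸ N) := by
        rw [← Subgroup.index_eq_card]
        exact Subgroup.one_lt_index_of_ne_top hN1
      have e1 : Group.IsSolvable N :=
        ih _ (by rw [← hmul]; exact lt_mul_left (by omega) h2) N rfl
          ((Dvd.intro_left _ hmul).trans hdvd)
      have e2 : Group.IsSolvable (G ⧸ N) :=
        ih _ (by rw [← hmul]; exact lt_mul_right (by omega) h1) (G ⧸ N) rfl
          ((Dvd.intro _ hmul).trans hdvd)
      exact (Group.isSolvable_iff_subgroup_quotient N).2 ⟨e1, e2⟩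
    · push Not at hs
      haveI : IsSimpleGroup G := ⟨fun N hN => or_iff_not_imp_left.2 fun h => hs N hN h⟩
      rw [← IsSimpleGroup.comm_iff_isSolvable]
      have hn1 : n ≠ 1 := by rw [← hn]; exact Finite.one_lt_card.ne'
      obtain ⟨r, hr, hrn⟩ := Nat.exists_prime_and_dvd hn1
      haveI := Fact.mk hr
      obtain ⟨P⟩ := (inferInstance : Nonempty (Sylow r G))
      haveI : Nontrivial (P : Subgroup G) := by
        rw [Subgroup.nontrivial_iff_ne_bot]
        exact P.ne_bot_of_dvd_card (hn ▸ hrn)
      haveI := P.isPGroup'.center_nontrivial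
      obtain ⟨z, hz⟩ := exists_ne (1 : Subgroup.center (P : Subgroup G))
      set g : G := ((z : (P : Subgroup G)) : G)
      have hg : g ≠ 1 := fun h => hz (Subtype.ext (Subtype.ext h))
      have hPC : (P : Subgroup G) ≤ Subgroup.centralizer ({g} : Set G) := fun x hx => by
        rw [Subgroup.mem_centralizer_singleton_iff]
        exact congrArg Subtype.val (Subgroup.mem_center_iff.1 z.2 ⟨x, hx⟩)
      have hidx : (Subgroup.centralizer ({g} : Set G)).index ∣ n := hn ▸ Subgroup.index_dvd_card _
      have hri : ¬ r ∣ (Subgroup.centralizer ({g} : Set G)).index := fun h =>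
        P.not_dvd_index (h.trans (Subgroup.index_dvd_of_le hPC))
      obtain ⟨d₁, d₂, hd₁, hd₂, hd⟩ := dvd_mul.1 (hidx.trans hdvd)
      obtain ⟨i, -, rfl⟩ := (Nat.dvd_prime_pow hp).1 hd₁
      obtain ⟨j, -, rfl⟩ := (Nat.dvd_prime_pow hq).1 hd₂
      have hrpq : r = p ∨ r = q := by
        rcases hr.dvd_mul.1 (hrn.trans hdvd) with h | h
        · exact Or.inl ((Nat.prime_dvd_prime_iff_eq hr hp).1 (hr.dvd_of_dvd_pow h))
        · exact Or.inr ((Nat.prime_dvd_prime_iff_eq hr hq).1 (hr.dvd_of_dvd_pow h))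
      have hprime : (Nat.card G).Prime := by
        rcases hrpq with rfl | rfl
        · have hi : i = 0 := by
            by_contra hi
            exact hri (hd ▸ dvd_mul_of_dvd_left (dvd_pow_self r hi) _)
          exact prime_card_of_class_prime_pow q j hq g hg (by rw [hd, hi, pow_zero, one_mul])
        · have hj : j = 0 := by
            by_contra hj
            exact hri (hd ▸ dvd_mul_of_dvd_right (dvd_pow_self r hj) _)
          exact prime_card_of_class_prime_pow p i hp g hg (by rw [hd, hj, pow_zero, mul_one])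
      haveI := Fact.mk hprime
      haveI : IsCyclic G := isCyclic_of_prime_card rfl
      exact IsCyclic.commGroup.mul_comm

end Cfsg.Agent.Char
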