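import Cfsg.Agent.Char.Basic
import Cfsg.Agent.Char.Integral

/-!
Further elementary facts on irreducible characters.
-/

set_option autoImplicit false
set_option linter.all false

open scoped ComplexConjugate
open Representation Module

namespace Cfsg.Agent.Char

universe u

variable {G : Type u} [Group G]

theorem isCharacter_isIntegral [Finite G] {χ : G → ℂ} (h : Cfsg.IsCharacter G χ) (g : G) :
    IsIntegral ℤ (χ g) := by
  obtain ⟨n, ρ, rfl⟩ := h
  exact isIntegral_char ρ g

theorem irr_degree_dvd_card [Finite G] (χ : Cfsg.IrrCharacter G) :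
    ∃ n : ℕ, 0 < n ∧ n ∣ Nat.card G ∧ (χ : G → ℂ) 1 = n := by
  obtain ⟨χ, hχ⟩ := χ
  obtain ⟨n, ρ, hρ, rfl⟩ := hχ
  haveI := hρ
  exact ⟨_, finrank_pos_of_isIrreducible ρ, finrank_dvd_card ρ, ρ.char_one⟩

theorem classInner_conj_conj [Fintype G] (a b : G → ℂ) :
    Cfsg.classInner (fun g => conj (a g)) (fun g => conj (b g)) = conj (Cfsg.classInner a b) := by
  simp [Cfsg.classInner, map_sum]

theorem isIrrCharacter_of_inner_self [Fintype G] {f : G → ℂ} (hf : Cfsg.IsCharacter G f)
    (h1 : Cfsg.classInner f f = 1) : Cfsg.IsIrrCharacter G f := by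
  classical
  have hcf := isClassFunction_of_isCharacter hf
  choose n hn using fun η : Cfsg.IrrCharacter G => exists_nat_classInner hf η
  have hexp := classFunction_expand hcf
  have hsq : Cfsg.classInner f f = ∑ η : Cfsg.IrrCharacter G, (n η : ℂ) * (n η : ℂ) := by
    conv_lhs => arg 1; rw [hexp]
    rw [classInner_sum_left]
    refine Finset.sum_congr rfl fun η _ => ?_
    rw [classInner_smul_left, ← classInner_conj_symm f (η : G → ℂ), hn, Complex.conj_natCast]
  rw [h1] at hsq
  have hsum : ∑ η : Cfsg.IrrCharacter G, n η * n η = 1 := by exact_mod_cast hsq.symm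
  obtain ⟨η₀, hη₀⟩ : ∃ η₀, n η₀ ≠ 0 := by
    by_contra hall
    push Not at hall
    simp [hall] at hsum
  rw [← Finset.add_sum_erase _ _ (Finset.mem_univ η₀)] at hsum
  have hpos : 1 ≤ n η₀ * n η₀ := Nat.mul_pos (Nat.pos_of_ne_zero hη₀) (Nat.pos_of_ne_zero hη₀)
  have hrest : ∑ η ∈ Finset.univ.erase η₀, n η * n η = 0 := by omega
  have h1' : n η₀ = 1 := Nat.eq_one_of_mul_eq_one_left (show n η₀ * n η₀ = 1 by omega)
  have hzero : ∀ η, η ≠ η₀ → n η = 0 := fun η hne => by
    have := Finset.sum_eq_zero_iff.1 hrest η (Finset.mem_erase.2 ⟨hne, Finset.mem_univ _⟩)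
    exact mul_self_eq_zero.1 this
  have : f = (η₀ : G → ℂ) := by
    rw [hexp, Finset.sum_eq_single η₀]
    · rw [hn, h1', Nat.cast_one, one_smul]
    · intro η _ hne
      rw [hn, hzero η hne, Nat.cast_zero, zero_smul]
    · simp
  rw [this]
  exact η₀.2

theorem isIrrCharacter_conj [Finite G] {χ : G → ℂ} (h : Cfsg.IsIrrCharacter G χ) :
    Cfsg.IsIrrCharacter G (fun g => conj (χ g)) := by
  haveI := Fintype.ofFinite G
  refine isIrrCharacter_of_inner_self (isCharacter_conj (isCharacter_of_isIrrCharacter h)) ?_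
  rw [classInner_conj_conj, classInner_irr_self ⟨χ, h⟩, map_one]

/-- The conjugate irreducible character. -/
noncomputable def irrConj [Finite G] (χ : Cfsg.IrrCharacter G) : Cfsg.IrrCharacter G :=
  ⟨fun g => conj ((χ : G → ℂ) g), isIrrCharacter_conj χ.2⟩

theorem eq_one_of_inv_eq_self_of_odd (hodd : Odd (Nat.card G)) {g : G} (h : g⁻¹ = g) : g = 1 := by
  obtain ⟨k, hk⟩ := hodd
  have h2 : g ^ 2 = 1 := by
    rw [sq]
    nth_rewrite 1 [← h]
    exact inv_mul_cancel g
  have := pow_card_eq_one' (G := G) (x := g)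
  rw [hk, pow_succ, pow_mul, h2, one_pow, one_mul] at this
  exact this

/-- Burnside: in a group of odd order the only real irreducible character is the principal one. -/
theorem eq_one_of_real_of_odd [Finite G] (hodd : Odd (Nat.card G)) (χ : Cfsg.IrrCharacter G)
    (hreal : ∀ g, conj ((χ : G → ℂ) g) = (χ : G → ℂ) g) : (χ : G → ℂ) = fun _ => 1 := by
  classical
  haveI := Fintype.ofFinite G
  by_contra hne
  obtain ⟨d, hdpos, hdvd, hd⟩ := irr_degree_dvd_card χ
  have h0 : Cfsg.classInner (χ : G → ℂ) (oneIrr G : G → ℂ) = 0 :=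
    classInner_irr_of_ne fun h => hne (congrArg Subtype.val h)
  have hsum : ∑ g : G, (χ : G → ℂ) g = 0 := by
    have : (Nat.card G : ℂ) ≠ 0 := by exact_mod_cast Nat.card_pos.ne'
    simpa [Cfsg.classInner, oneIrr, this] using h0
  have hinv : ∀ g, (χ : G → ℂ) g⁻¹ = (χ : G → ℂ) g := fun g => by
    rw [irr_apply_inv, hreal]
  let e := Fintype.equivFin G
  let S : Finset G := Finset.univ.filter fun g => e g < e g⁻¹
  let T : Finset G := Finset.univ.filter fun g => e g⁻¹ < e g
  have hST : ∑ g ∈ S, (χ : G → ℂ) g = ∑ g ∈ T, (χ : G → ℂ) g := by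
    refine Finset.sum_bij' (fun g _ => g⁻¹) (fun g _ => g⁻¹) ?_ ?_ ?_ ?_ ?_
    · intro g hg; simpa [S, T] using hg
    · intro g hg; simpa [S, T] using hg
    · intro g _; simp
    · intro g _; simp
    · intro g _; exact (hinv g).symm
  have huniv : (Finset.univ : Finset G) = {1} ∪ (S ∪ T) := by
    ext g
    simp only [Finset.mem_univ, true_iff, Finset.mem_union, Finset.mem_singleton, S, T,
      Finset.mem_filter, true_and]
    rcases lt_trichotomy (e g) (e g⁻¹) with h | h | h
    · exact Or.inr (Or.inl h)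
    · exact Or.inl (eq_one_of_inv_eq_self_of_odd hodd (e.injective h).symm)
    · exact Or.inr (Or.inr h)
  have hd1 : Disjoint ({1} : Finset G) (S ∪ T) := by
    simp [S, T]
  have hd2 : Disjoint S T := by
    simp only [S, T, Finset.disjoint_filter]
    intro g _ h1
    exact not_lt_of_gt h1
  rw [huniv, Finset.sum_union hd1, Finset.sum_singleton, Finset.sum_union hd2, ← hST, hd] at hsum
  have hα : IsIntegral ℤ (∑ g ∈ S, (χ : G → ℂ) g) :=
    IsIntegral.sum _ fun g _ => isCharacter_isIntegral (isCharacter_of_isIrrCharacter χ.2) g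
  have heq : (d : ℂ) / (2 : ℕ) = -∑ g ∈ S, (χ : G → ℂ) g := by
    push_cast
    linear_combination hsum / 2
  have h2d : 2 ∣ d := nat_dvd_of_isIntegral two_ne_zero (by rw [heq]; exact hα.neg)
  exact (Nat.not_even_iff_odd.2 hodd) (even_iff_two_dvd.2 (h2d.trans hdvd))

theorem norm_isCharacter_le [Finite G] {χ : G → ℂ} (h : Cfsg.IsCharacter G χ) (g : G) :
    ‖χ g‖ ≤ (χ 1).re := by
  obtain ⟨n, ρ, rfl⟩ := h
  obtain ⟨b, ω, hb, hω⟩ := exists_eigenbasis ρ g (isOfFinOrder_of_finite g)
  rw [ρ.char_one, Representation.character, trace_of_eigenbasis _ b ω hb]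
  refine (norm_sum_le _ _).trans (le_of_eq ?_)
  simp [Complex.norm_eq_one_of_pow_eq_one (hω _) (orderOf_pos g).ne']

theorem re_isCharacter_le [Finite G] {χ : G → ℂ} (h : Cfsg.IsCharacter G χ) (g : G) :
    (χ g).re ≤ (χ 1).re :=
  (Complex.re_le_norm _).trans (norm_isCharacter_le h g)

theorem eq_apply_one_of_re_eq [Finite G] {χ : G → ℂ} (h : Cfsg.IsCharacter G χ) (g : G)
    (hre : (χ g).re = (χ 1).re) : χ g = χ 1 := by
  have him : (χ g).im = 0 := by
    have h1 := norm_isCharacter_le h g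
    rw [← hre] at h1
    have h2 : ‖χ g‖ ^ 2 = (χ g).re * (χ g).re + (χ g).im * (χ g).im := by
      rw [Complex.sq_norm, Complex.normSq_apply]
    nlinarith [norm_nonneg (χ g), sq_nonneg ((χ g).im)]
  obtain ⟨n, hn⟩ := isCharacter_apply_one h
  rw [hn] at hre ⊢
  apply Complex.ext <;> simp_all

end Cfsg.Agent.Char
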