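import Cfsg.Agent.Char.Basic

/-!
Induced class functions, Frobenius reciprocity, restriction to normal subgroups.
-/

set_option autoImplicit false
set_option linter.all false

open scoped ComplexConjugate
open Representation Module

namespace Cfsg.Agent.Char

universe u v

variable {G : Type u} [Group G]

section Fin

variable [Fintype G]

theorem extendByZero_of_mem (H : Subgroup G) (θ : H → ℂ) {g : G} (hg : g ∈ H) :
    Cfsg.extendByZero H θ g = θ ⟨g, hg⟩ :=
  Subtype.val_injective.extend_apply θ 0 ⟨g, hg⟩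

theorem extendByZero_of_not_mem (H : Subgroup G) (θ : H → ℂ) {g : G} (hg : g ∉ H) :
    Cfsg.extendByZero H θ g = 0 :=
  Function.extend_apply' _ _ _ (by rintro ⟨a, rfl⟩; exact hg a.2)

theorem indFun_isClassFunction (H : Subgroup G) (θ : H → ℂ) :
    Cfsg.IsClassFunction G (Cfsg.indFun H θ) := by
  intro g y
  unfold Cfsg.indFun
  congr 1
  refine Fintype.sum_equiv (Equiv.mulLeft y⁻¹) _ _ fun x => ?_
  simp [mul_assoc]

theorem sum_extendByZero_mul (H : Subgroup G) [Fintype H] (θ : H → ℂ) (φ : G → ℂ) :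
    ∑ g : G, Cfsg.extendByZero H θ g * φ g = ∑ h : H, θ h * φ h := by
  classical
  rw [← Finset.sum_filter_add_sum_filter_not Finset.univ (fun g => g ∈ H),
    Finset.sum_eq_zero (s := Finset.univ.filter fun g => ¬ g ∈ H)
      (fun g hg => by rw [extendByZero_of_not_mem H θ (by simpa using hg), zero_mul]), add_zero,
    Finset.sum_subtype (Finset.univ.filter fun g => g ∈ H) (p := fun g => g ∈ H) (by simp)]
  exact Finset.sum_congr rfl fun h _ => by rw [extendByZero_of_mem H θ h.2]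

/-- Frobenius reciprocity. -/
theorem classInner_indFun (H : Subgroup G) [Fintype H] (θ : H → ℂ) {χ : G → ℂ}
    (hχ : Cfsg.IsClassFunction G χ) :
    Cfsg.classInner (Cfsg.indFun H θ) χ = Cfsg.classInner θ (fun h : H => χ h) := by
  unfold Cfsg.classInner Cfsg.indFun
  simp only [mul_assoc, ← Finset.mul_sum, Finset.sum_mul]
  rw [Finset.sum_comm]
  have key : ∀ x : G, ∑ g : G, Cfsg.extendByZero H θ (x⁻¹ * (g * x)) * conj (χ g)
      = ∑ h : H, θ h * conj (χ h) := by
    intro x
    rw [← sum_extendByZero_mul H θ (fun g => conj (χ g))]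
    refine Fintype.sum_equiv (MulAut.conj x⁻¹).toEquiv _ _ fun g => ?_
    show _ = Cfsg.extendByZero H θ (x⁻¹ * g * x⁻¹⁻¹) * conj (χ (x⁻¹ * g * x⁻¹⁻¹))
    rw [hχ g x⁻¹, inv_inv, mul_assoc]
  simp only [key, Finset.sum_const, Finset.card_univ, nsmul_eq_mul]
  rw [← Nat.card_eq_fintype_card (α := G)]
  have : (Nat.card G : ℂ) ≠ 0 := by exact_mod_cast Nat.card_pos.ne'
  field_simp

theorem indFun_eq_of_mem_iff (H : Subgroup G) (θ : H → ℂ) (g : G) :
    Cfsg.indFun H θ g = (Nat.card H : ℂ)⁻¹ * ∑ x : G, Cfsg.extendByZero H θ (x⁻¹ * g * x) := rfl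

theorem indFun_apply_one (H : Subgroup G) (θ : H → ℂ) :
    Cfsg.indFun H θ 1 = (H.index : ℂ) * θ 1 := by
  simp only [Cfsg.indFun, mul_one, inv_mul_cancel, extendByZero_of_mem H θ H.one_mem,
    Finset.sum_const, Finset.card_univ, nsmul_eq_mul]
  rw [← Nat.card_eq_fintype_card (α := G), ← Subgroup.index_mul_card H]
  have : (Nat.card H : ℂ) ≠ 0 := by exact_mod_cast Nat.card_pos.ne'
  push_cast
  field_simp
  rfl

theorem indFun_add (H : Subgroup G) (θ θ' : H → ℂ) :
    Cfsg.indFun H (θ + θ') = Cfsg.indFun H θ + Cfsg.indFun H θ' := by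
  funext g
  simp only [Cfsg.indFun, Pi.add_apply, ← mul_add, ← Finset.sum_add_distrib]
  congr 1
  refine Finset.sum_congr rfl fun x _ => ?_
  by_cases hx : x⁻¹ * g * x ∈ H
  · simp [extendByZero_of_mem, hx]
  · simp [extendByZero_of_not_mem, hx]

theorem indFun_smul (H : Subgroup G) (c : ℂ) (θ : H → ℂ) :
    Cfsg.indFun H (c • θ) = c • Cfsg.indFun H θ := by
  funext g
  simp only [Cfsg.indFun, Pi.smul_apply, smul_eq_mul, Finset.mul_sum]
  refine Finset.sum_congr rfl fun x _ => ?_
  by_cases hx : x⁻¹ * g * x ∈ H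
  · simp [extendByZero_of_mem, hx]; ring
  · simp [extendByZero_of_not_mem, hx]

theorem indFun_isCharacter (H : Subgroup G) {θ : H → ℂ} (hθ : Cfsg.IsCharacter H θ) :
    Cfsg.IsCharacter G (Cfsg.indFun H θ) := by
  haveI := Fintype.ofFinite H
  refine isCharacter_of_inner_nat (indFun_isClassFunction H θ) fun χ => ?_
  rw [classInner_indFun H θ (irr_isClassFunction χ)]
  exact exists_nat_inner hθ (isCharacter_comp (isCharacter_of_isIrrCharacter χ.2) H.subtype)

theorem indFun_trans (H K : Subgroup G) [Fintype K] (hHK : H ≤ K) (θ : H → ℂ) :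
    Cfsg.indFun K (Cfsg.indFun (H.subgroupOf K)
      (fun x => θ ⟨(x : K), Subgroup.mem_subgroupOf.mp x.2⟩)) = Cfsg.indFun H θ := by
  classical
  set θK : H.subgroupOf K → ℂ := fun x => θ ⟨(x : K), Subgroup.mem_subgroupOf.mp x.2⟩
  have hcard : Nat.card (H.subgroupOf K) = Nat.card H :=
    Nat.card_congr (Subgroup.subgroupOfEquivOfLe hHK).toEquiv
  have hE : ∀ k : K, Cfsg.extendByZero (H.subgroupOf K) θK k = Cfsg.extendByZero H θ (k : G) := by
    intro k
    by_cases hk : (k : G) ∈ H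
    · rw [extendByZero_of_mem H θ hk]
      exact Subtype.val_injective.extend_apply θK 0 ⟨k, Subgroup.mem_subgroupOf.2 hk⟩
    · rw [extendByZero_of_not_mem H θ hk]
      exact Function.extend_apply' _ _ _ (by rintro ⟨a, rfl⟩; exact hk a.2)
  funext g
  have h1 : ∀ x : G, Cfsg.extendByZero K (Cfsg.indFun (H.subgroupOf K) θK) (x⁻¹ * g * x)
      = (Nat.card H : ℂ)⁻¹ * ∑ k : K, Cfsg.extendByZero H θ ((x * k)⁻¹ * g * (x * k)) := by
    intro x
    by_cases hx : x⁻¹ * g * x ∈ K
    · rw [extendByZero_of_mem K _ hx, Cfsg.indFun, hcard]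
      congr 1
      refine Finset.sum_congr rfl fun k _ => ?_
      rw [hE]
      simp [mul_assoc]
    · rw [extendByZero_of_not_mem K _ hx, Finset.sum_eq_zero fun k _ => ?_, mul_zero]
      refine extendByZero_of_not_mem H θ fun hk => hx ?_
      have := K.mul_mem (K.mul_mem k.2 (hHK hk)) (K.inv_mem k.2)
      simpa [mul_assoc] using this
  show (Nat.card K : ℂ)⁻¹ * _ = (Nat.card H : ℂ)⁻¹ * _
  simp only [h1, ← Finset.mul_sum]
  rw [Finset.sum_comm]
  have h2 : ∀ k : K, ∑ x : G, Cfsg.extendByZero H θ ((x * k)⁻¹ * g * (x * k))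
      = ∑ x : G, Cfsg.extendByZero H θ (x⁻¹ * g * x) :=
    fun k => Fintype.sum_equiv (Equiv.mulRight (k : G)) _ _ fun x => rfl
  simp only [h2, Finset.sum_const, Finset.card_univ, nsmul_eq_mul, Nat.card_eq_fintype_card (α := K)]
  have : (Fintype.card K : ℂ) ≠ 0 := by exact_mod_cast Fintype.card_ne_zero
  field_simp

end Fin

/-! ### Normal subgroups -/

section Normal

variable (N : Subgroup G) [hN : N.Normal]

/-- The conjugate of a function on a normal subgroup: `n ↦ θ (g n g⁻¹)`. -/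
def conjFn (θ : N → ℂ) (g : G) : N → ℂ := fun n => θ ⟨g * n * g⁻¹, hN.conj_mem n n.2 g⟩

/-- Conjugation as an automorphism of a normal subgroup. -/
def conjEquiv (g : G) : N ≃* N where
  toFun n := ⟨g * n * g⁻¹, hN.conj_mem n n.2 g⟩
  invFun n := ⟨g⁻¹ * n * g, by simpa using hN.conj_mem n n.2 g⁻¹⟩
  left_inv n := Subtype.ext (by simp [mul_assoc])
  right_inv n := Subtype.ext (by simp [mul_assoc])
  map_mul' a b := Subtype.ext (by simp [mul_assoc])

theorem conjFn_eq (θ : N → ℂ) (g : G) : conjFn N θ g = fun n => θ (conjEquiv N g n) := rfl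

theorem conjFn_one (θ : N → ℂ) : conjFn N θ 1 = θ := by
  funext n; exact congrArg θ (Subtype.ext (by simp))

theorem conjFn_mul (θ : N → ℂ) (g h : G) : conjFn N θ (g * h) = conjFn N (conjFn N θ g) h := by
  funext n; exact congrArg θ (Subtype.ext (by simp [mul_assoc]))

theorem conjFn_isIrr {θ : N → ℂ} (hθ : Cfsg.IsIrrCharacter N θ) (g : G) :
    Cfsg.IsIrrCharacter N (conjFn N θ g) :=
  isIrrCharacter_comp_of_surjective hθ (conjEquiv N g).toMonoidHom (conjEquiv N g).surjective

/-- The conjugate irreducible character. -/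
def conjIrr (θ : Cfsg.IrrCharacter N) (g : G) : Cfsg.IrrCharacter N :=
  ⟨conjFn N θ g, conjFn_isIrr N θ.2 g⟩

theorem classInner_conjFn [Fintype N] (φ ψ : N → ℂ) (g : G) :
    Cfsg.classInner (conjFn N φ g) (conjFn N ψ g) = Cfsg.classInner φ ψ := by
  unfold Cfsg.classInner
  congr 1
  exact Fintype.sum_equiv (conjEquiv N g).toEquiv _ _ fun n => rfl

theorem conjFn_res {χ : G → ℂ} (hχ : Cfsg.IsClassFunction G χ) (g : G) :
    conjFn N (fun n : N => χ n) g = fun n : N => χ n :=
  funext fun n => hχ n g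

theorem indFun_res_normal [Fintype G] (θ : N → ℂ) :
    (fun n : N => Cfsg.indFun N θ n) = (Nat.card N : ℂ)⁻¹ • ∑ x : G, conjFn N θ x := by
  funext n
  simp only [Cfsg.indFun, Pi.smul_apply, Finset.sum_apply, smul_eq_mul]
  congr 1
  refine Fintype.sum_equiv (Equiv.inv G) _ _ fun x => ?_
  have hmem : x⁻¹ * (n : G) * x ∈ N := by simpa using hN.conj_mem n n.2 x⁻¹
  rw [extendByZero_of_mem N θ hmem]
  exact congrArg θ (Subtype.ext (by simp))

theorem indFun_conjFn [Fintype G] (θ : N → ℂ) (g : G) :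
    Cfsg.indFun N (conjFn N θ g) = Cfsg.indFun N θ := by
  funext a
  simp only [Cfsg.indFun]
  congr 1
  refine Fintype.sum_equiv (Equiv.mulRight g⁻¹) _ _ fun x => ?_
  simp only [Equiv.coe_mulRight]
  by_cases hx : x⁻¹ * a * x ∈ N
  · have hx' : (x * g⁻¹)⁻¹ * a * (x * g⁻¹) ∈ N := by
      have := hN.conj_mem _ hx g
      simpa [mul_assoc] using this
    rw [extendByZero_of_mem N _ hx, extendByZero_of_mem N _ hx']
    exact congrArg θ (Subtype.ext (by simp [mul_assoc]))
  · have hx' : (x * g⁻¹)⁻¹ * a * (x * g⁻¹) ∉ N := fun h => hx (by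
      have := hN.conj_mem _ h g⁻¹
      simpa [mul_assoc] using this)
    rw [extendByZero_of_not_mem N _ hx, extendByZero_of_not_mem N _ hx']

theorem indFun_eq_zero_of_not_mem [Fintype G] (θ : N → ℂ) {g : G} (hg : g ∉ N) :
    Cfsg.indFun N θ g = 0 := by
  rw [indFun_eq_of_mem_iff, Finset.sum_eq_zero fun x _ => ?_, mul_zero]
  refine extendByZero_of_not_mem N θ fun h => hg ?_
  simpa [mul_assoc] using hN.conj_mem _ h x

/-- Irreducible constituents of a restriction to a normal subgroup are conjugate. -/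
theorem exists_conj_of_constituents [Fintype G] [Fintype N] (χ : Cfsg.IrrCharacter G)
    (θ ψ : Cfsg.IrrCharacter N)
    (hθ : Cfsg.classInner (fun n : N => (χ : G → ℂ) n) (θ : N → ℂ) ≠ 0)
    (hψ : Cfsg.classInner (fun n : N => (χ : G → ℂ) n) (ψ : N → ℂ) ≠ 0) :
    ∃ g : G, (ψ : N → ℂ) = conjFn N (θ : N → ℂ) g := by
  classical
  by_contra hne
  push Not at hne
  have hθc := isCharacter_of_isIrrCharacter θ.2
  have hzero : Cfsg.classInner (fun n : N => Cfsg.indFun N (θ : N → ℂ) n) (ψ : N → ℂ) = 0 := by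
    rw [indFun_res_normal, classInner_smul_left, classInner_sum_left,
      Finset.sum_eq_zero fun x _ => ?_, mul_zero]
    exact classInner_irr_of_ne (χ := conjIrr N θ x) fun h => hne x (congrArg Subtype.val h.symm)
  -- expand the induced character
  have hexp := classFunction_expand (indFun_isClassFunction N (θ : N → ℂ))
  have hres : (fun n : N => Cfsg.indFun N (θ : N → ℂ) n) = ∑ η : Cfsg.IrrCharacter G,
      Cfsg.classInner (Cfsg.indFun N (θ : N → ℂ)) (η : G → ℂ) • fun n : N => (η : G → ℂ) n := by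
    funext n
    conv_lhs => rw [hexp]
    simp
  rw [hres, classInner_sum_left] at hzero
  simp only [classInner_smul_left] at hzero
  choose a ha using fun η : Cfsg.IrrCharacter G =>
    exists_nat_classInner (indFun_isCharacter N hθc) η
  choose b hb using fun η : Cfsg.IrrCharacter G =>
    exists_nat_classInner
      (isCharacter_comp (isCharacter_of_isIrrCharacter η.2) N.subtype) ψ
  have hb' : ∀ η : Cfsg.IrrCharacter G,
      Cfsg.classInner (fun n : N => (η : G → ℂ) n) (ψ : N → ℂ) = b η := hb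
  simp only [ha, hb'] at hzero
  have hz : ∑ η : Cfsg.IrrCharacter G, a η * b η = 0 := by exact_mod_cast hzero
  have hab := (Finset.sum_eq_zero_iff.1 hz) χ (Finset.mem_univ _)
  have hane : a χ ≠ 0 := by
    intro h
    apply hθ
    rw [← classInner_conj_symm, ← classInner_indFun N _ (irr_isClassFunction χ), ha χ, h]
    simp
  have hbne : b χ ≠ 0 := fun h => hψ (by rw [hb' χ, h]; simp)
  exact mul_ne_zero hane hbne hab

/-- Clifford's theorem. -/
theorem res_eq_smul_sum_conj [Fintype G] [Fintype N] (χ : Cfsg.IrrCharacter G)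
    (θ : Cfsg.IrrCharacter N)
    (hθ : Cfsg.classInner (fun n : N => (χ : G → ℂ) n) (θ : N → ℂ) ≠ 0) :
    (fun n : N => (χ : G → ℂ) n) = Cfsg.classInner (fun n : N => (χ : G → ℂ) n) (θ : N → ℂ) •
      ∑ᶠ ψ ∈ {ψ : N → ℂ | ∃ g : G, ψ = conjFn N (θ : N → ℂ) g}, ψ := by
  classical
  set r := fun n : N => (χ : G → ℂ) n
  have hr : Cfsg.IsClassFunction N r := isClassFunction_of_isCharacter
    (isCharacter_comp (isCharacter_of_isIrrCharacter χ.2) N.subtype)
  let O : Finset (Cfsg.IrrCharacter N) :=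
    Finset.univ.filter fun ψ => ∃ g : G, (ψ : N → ℂ) = conjFn N (θ : N → ℂ) g
  have hsum : ∑ᶠ ψ ∈ {ψ : N → ℂ | ∃ g : G, ψ = conjFn N (θ : N → ℂ) g}, ψ
      = ∑ ψ ∈ O, (ψ : N → ℂ) := by
    rw [finsum_mem_eq_finite_toFinset_sum _ (Set.Finite.subset
      (Set.finite_range fun g : G => conjFn N (θ : N → ℂ) g) (by rintro ψ ⟨g, rfl⟩; exact ⟨g, rfl⟩))]
    refine (Finset.sum_nbij (fun ψ : Cfsg.IrrCharacter N => (ψ : N → ℂ)) ?_ ?_ ?_ ?_).symm
    · intro ψ hψ
      simpa [O] using hψ
    · exact Subtype.val_injective.injOn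
    · intro f hf
      obtain ⟨g, rfl⟩ : ∃ g : G, f = conjFn N (θ : N → ℂ) g := by simpa using hf
      exact ⟨conjIrr N θ g, by simp [O, conjIrr], rfl⟩
    · intro ψ _; rfl
  rw [hsum, Finset.smul_sum]
  conv_lhs => rw [classFunction_expand hr]
  rw [← Finset.sum_filter_add_sum_filter_not Finset.univ
    (fun ψ : Cfsg.IrrCharacter N => ∃ g : G, (ψ : N → ℂ) = conjFn N (θ : N → ℂ) g),
    Finset.sum_eq_zero (s := Finset.univ.filter fun ψ : Cfsg.IrrCharacter N =>
      ¬ ∃ g : G, (ψ : N → ℂ) = conjFn N (θ : N → ℂ) g) ?_, add_zero]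
  · refine Finset.sum_congr rfl fun ψ hψ => ?_
    obtain ⟨g, hg⟩ := (Finset.mem_filter.1 hψ).2
    congr 1
    rw [hg]
    have hrg : conjFn N r g = r := conjFn_res N (irr_isClassFunction χ) g
    conv_lhs => rw [← hrg]
    exact classInner_conjFn N _ _ g
  · intro ψ hψ
    have hne := (Finset.mem_filter.1 hψ).2
    rw [show Cfsg.classInner r (ψ : N → ℂ) = 0 from
      by_contra fun h => hne (exists_conj_of_constituents N χ θ ψ hθ h), zero_smul]

theorem classInner_indFun_indFun [Fintype G] [Fintype N] (φ θ : N → ℂ) :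
    Cfsg.classInner (Cfsg.indFun N φ) (Cfsg.indFun N θ)
      = (Nat.card N : ℂ)⁻¹ * ∑ x : G, Cfsg.classInner φ (conjFn N θ x) := by
  rw [classInner_indFun N φ (indFun_isClassFunction N θ), indFun_res_normal,
    classInner_smul_right, classInner_sum_right, map_inv₀, Complex.conj_natCast]

theorem classInner_indFun_irr [Fintype G] [Fintype N] (φ θ : Cfsg.IrrCharacter N) :
    (Nat.card N : ℂ) * Cfsg.classInner (Cfsg.indFun N (φ : N → ℂ)) (Cfsg.indFun N (θ : N → ℂ))
      = (Nat.card {x : G // conjFn N (θ : N → ℂ) x = φ} : ℂ) := by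
  classical
  rw [classInner_indFun_indFun, ← mul_assoc, mul_inv_cancel₀ (by exact_mod_cast Nat.card_pos.ne'),
    one_mul, Nat.card_eq_fintype_card, Fintype.card_subtype, ← Finset.sum_boole]
  refine Finset.sum_congr rfl fun x _ => ?_
  by_cases h : conjFn N (θ : N → ℂ) x = φ
  · rw [if_pos h, h, classInner_irr_self]
  · rw [if_neg h]
    exact classInner_irr_of_ne (ψ := conjIrr N θ x) fun he => h (congrArg Subtype.val he).symm

end Normal

end Cfsg.Agent.Char
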