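import Mathlib.RepresentationTheory.Character
import Mathlib.RepresentationTheory.Maschke
import Mathlib.RepresentationTheory.Semisimple
import Mathlib.LinearAlgebra.Eigenspace.Semisimple
import Mathlib.LinearAlgebra.Eigenspace.Triangularizable
import Mathlib.Analysis.Complex.Polynomial.Basic
import Mathlib.GroupTheory.GroupAction.Quotient
import Cfsg.Prelude.Def_Characters

/-!
Ordinary character theory of finite groups.
-/

set_option autoImplicit false
set_option linter.all false

open scoped ComplexConjugate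
open Representation Module

namespace Cfsg.Agent.Char

universe u v w

/-! ### Eigenbasis of a group element -/

section Eigen

variable {G : Type u} [Group G] {V : Type v} [AddCommGroup V] [Module ℂ V] [FiniteDimensional ℂ V]

theorem iSup_eigenspace_eq_top_of_pow_eq_one (f : Module.End ℂ V) {n : ℕ} (hn : 0 < n)
    (hf : f ^ n = 1) : (⨆ μ : ℂ, f.eigenspace μ) = ⊤ := by
  have hss : f.IsSemisimple := by
    refine Module.End.isSemisimple_of_squarefree_aeval_eq_zero
      (p := (Polynomial.X ^ n - Polynomial.C (1 : ℂ))) ?_ ?_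
    · exact (Polynomial.separable_X_pow_sub_C (1 : ℂ) (by exact_mod_cast hn.ne') one_ne_zero).squarefree
    · simp [hf]
  have h := Module.End.iSup_maxGenEigenspace_eq_top f
  simp only [hss.isFinitelySemisimple.maxGenEigenspace_eq_eigenspace] at h
  exact h

/-- A group element of finite order acts diagonalisably with root-of-unity eigenvalues. -/
theorem exists_eigenbasis (ρ : Representation ℂ G V) (g : G) (hg : IsOfFinOrder g) :
    ∃ (b : Basis (Fin (finrank ℂ V)) ℂ V) (ω : Fin (finrank ℂ V) → ℂ),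
      (∀ i, ρ g (b i) = ω i • b i) ∧ ∀ i, ω i ^ orderOf g = 1 := by
  classical
  have hn : 0 < orderOf g := hg.orderOf_pos
  have hpow : (ρ g) ^ orderOf g = 1 := by rw [← map_pow, pow_orderOf_eq_one, map_one]
  have htop := iSup_eigenspace_eq_top_of_pow_eq_one (ρ g) hn hpow
  have hspan : Submodule.span ℂ {v : V | v ≠ 0 ∧ ∃ μ : ℂ, ρ g v = μ • v} = ⊤ := by
    rw [eq_top_iff, ← htop, iSup_le_iff]
    intro μ v hv
    by_cases h0 : v = 0
    · simp [h0]
    · exact Submodule.subset_span ⟨h0, μ, Module.End.mem_eigenspace_iff.1 hv⟩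
  obtain ⟨s, hs, hsspan, hsli⟩ := exists_linearIndependent ℂ {v : V | v ≠ 0 ∧ ∃ μ : ℂ, ρ g v = μ • v}
  let b₀ : Basis s ℂ V := Basis.mk hsli (by rw [Subtype.range_coe, hsspan, hspan])
  haveI : Fintype s := FiniteDimensional.fintypeBasisIndex b₀
  have hcard : Fintype.card s = finrank ℂ V := (Module.finrank_eq_card_basis b₀).symm
  let e : s ≃ Fin (finrank ℂ V) := Fintype.equivFinOfCardEq hcard
  let b := b₀.reindex e
  have hb : ∀ i, b i = ((e.symm i : s) : V) := by intro i; simp [b, b₀]
  choose μ hμ using fun x : s => (hs x.2).2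
  refine ⟨b, fun i => μ (e.symm i), fun i => ?_, fun i => ?_⟩
  · rw [hb]; exact hμ _
  · have hv := (hs (e.symm i).2).1
    have key : ∀ k : ℕ, ((ρ g) ^ k) ((e.symm i : s) : V) = μ (e.symm i) ^ k • ((e.symm i : s) : V) := by
      intro k
      induction k with
      | zero => simp
      | succ k ih => rw [pow_succ', Module.End.mul_apply, ih, map_smul, hμ, smul_smul, pow_succ]
    have h1 := key (orderOf g)
    rw [hpow, Module.End.one_apply] at h1
    have h2 : (μ (e.symm i) ^ orderOf g - 1) • ((e.symm i : s) : V) = 0 := by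
      rw [sub_smul, one_smul, ← h1, sub_self]
    rcases smul_eq_zero.1 h2 with h3 | h3
    · exact sub_eq_zero.1 h3
    · exact absurd h3 hv

theorem trace_of_eigenbasis {ι : Type*} [Fintype ι] (f : Module.End ℂ V) (b : Basis ι ℂ V)
    (ω : ι → ℂ) (h : ∀ i, f (b i) = ω i • b i) : LinearMap.trace ℂ V f = ∑ i, ω i := by
  classical
  rw [LinearMap.trace_eq_matrix_trace ℂ b f, Matrix.trace]
  refine Finset.sum_congr rfl fun i _ => ?_
  simp [LinearMap.toMatrix_apply, h]

theorem conj_eq_inv_of_pow_eq_one {z : ℂ} {n : ℕ} (hn : 0 < n) (hz : z ^ n = 1) : conj z = z⁻¹ :=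
  (Complex.inv_eq_conj (Complex.norm_eq_one_of_pow_eq_one hz hn.ne')).symm

theorem char_inv_of_isOfFinOrder (ρ : Representation ℂ G V) (g : G) (hg : IsOfFinOrder g) :
    ρ.character g⁻¹ = conj (ρ.character g) := by
  obtain ⟨b, ω, hb, hω⟩ := exists_eigenbasis ρ g hg
  have hω0 : ∀ i, ω i ≠ 0 := fun i h => by
    have := hω i
    rw [h, zero_pow hg.orderOf_pos.ne'] at this
    exact zero_ne_one this
  have hb' : ∀ i, ρ g⁻¹ (b i) = (ω i)⁻¹ • b i := fun i => by
    have h1 : ρ g⁻¹ (ρ g (b i)) = b i := by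
      rw [← Module.End.mul_apply, ← map_mul, inv_mul_cancel, map_one, Module.End.one_apply]
    rw [hb i, map_smul] at h1
    calc ρ g⁻¹ (b i) = (ω i)⁻¹ • (ω i • ρ g⁻¹ (b i)) := by rw [inv_smul_smul₀ (hω0 i)]
      _ = (ω i)⁻¹ • b i := by rw [h1]
  unfold Representation.character
  rw [trace_of_eigenbasis _ b ω hb, trace_of_eigenbasis _ b _ hb', map_sum]
  exact Finset.sum_congr rfl fun i _ => (conj_eq_inv_of_pow_eq_one hg.orderOf_pos (hω i)).symm

theorem char_inv [Finite G] (ρ : Representation ℂ G V) (g : G) :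
    ρ.character g⁻¹ = conj (ρ.character g) :=
  char_inv_of_isOfFinOrder ρ g (isOfFinOrder_of_finite g)

end Eigen

/-! ### Representations and characters -/

section Rep

variable {G : Type u} [Group G] {V : Type v} [AddCommGroup V] [Module ℂ V]
  {W : Type w} [AddCommGroup W] [Module ℂ W]

/-- Transport of a representation along a linear equivalence. -/
noncomputable def conjRep (e : V ≃ₗ[ℂ] W) (ρ : Representation ℂ G V) : Representation ℂ G W where
  toFun g := e.conj (ρ g)
  map_one' := by ext x; simp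
  map_mul' g h := by ext x; simp [LinearEquiv.conj_apply]

theorem conjRep_apply (e : V ≃ₗ[ℂ] W) (ρ : Representation ℂ G V) (g : G) (x : W) :
    conjRep e ρ g x = e (ρ g (e.symm x)) := by simp [conjRep, LinearEquiv.conj_apply]

theorem char_conjRep (e : V ≃ₗ[ℂ] W) (ρ : Representation ℂ G V) :
    (conjRep e ρ).character = ρ.character := by
  funext g; exact LinearMap.trace_conj' (ρ g) e

noncomputable def conjRepEquiv (e : V ≃ₗ[ℂ] W) (ρ : Representation ℂ G V) :
    ρ.Equiv (conjRep e ρ) :=
  Representation.Equiv.mk e fun g => by ext x; simp [conjRep_apply]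

theorem isIrreducible_of_equiv {ρ : Representation ℂ G V} {σ : Representation ℂ G W}
    (φ : ρ.Equiv σ) [hρ : ρ.IsIrreducible] : σ.IsIrreducible := by
  rw [irreducible_iff_isSimpleModule_asModule] at hρ ⊢
  let f := IntertwiningMap.equivLinearMapAsModule ρ σ φ.toIntertwiningMap
  have hf : Function.Bijective f := φ.toLinearEquiv.bijective
  exact IsSimpleModule.congr (LinearEquiv.ofBijective f hf).symm

theorem isCharacter_of_rep [FiniteDimensional ℂ V] (ρ : Representation ℂ G V) :
    Cfsg.IsCharacter G ρ.character := by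
  let e : V ≃ₗ[ℂ] (Fin (finrank ℂ V) → ℂ) := (finBasis ℂ V).equivFun
  exact ⟨_, conjRep e ρ, char_conjRep e ρ⟩

theorem isIrrCharacter_of_rep [FiniteDimensional ℂ V] (ρ : Representation ℂ G V)
    [ρ.IsIrreducible] : Cfsg.IsIrrCharacter G ρ.character := by
  let e : V ≃ₗ[ℂ] (Fin (finrank ℂ V) → ℂ) := (finBasis ℂ V).equivFun
  exact ⟨_, conjRep e ρ, isIrreducible_of_equiv (conjRepEquiv e ρ), char_conjRep e ρ⟩

theorem char_prod [FiniteDimensional ℂ V] [FiniteDimensional ℂ W]
    (ρ : Representation ℂ G V) (σ : Representation ℂ G W) :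
    (ρ.prod σ).character = ρ.character + σ.character := by
  funext g; exact LinearMap.trace_prodMap' (ρ g) (σ g)

theorem nontrivial_of_isIrreducible (ρ : Representation ℂ G V) [hρ : ρ.IsIrreducible] :
    Nontrivial V := by
  rw [irreducible_iff_isSimpleModule_asModule] at hρ
  exact IsSimpleModule.nontrivial (MonoidAlgebra ℂ G) ρ.asModule

theorem finrank_pos_of_isIrreducible [FiniteDimensional ℂ V] (ρ : Representation ℂ G V)
    [ρ.IsIrreducible] : 0 < finrank ℂ V :=
  haveI := nontrivial_of_isIrreducible ρ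
  Module.finrank_pos

/-- Schur: an operator commuting with an irreducible representation is a scalar. -/
theorem exists_smul_id_of_commute [FiniteDimensional ℂ V] (ρ : Representation ℂ G V)
    [ρ.IsIrreducible] (T : Module.End ℂ V) (hT : ∀ g, T * ρ g = ρ g * T) :
    ∃ c : ℂ, T = c • LinearMap.id := by
  let f : IntertwiningMap ρ ρ := ⟨T, fun g => hT g⟩
  obtain ⟨c, hc⟩ := (IsIrreducible.algebraMap_intertwiningMap_bijective_of_isAlgClosed (ρ := ρ)).2 f
  refine ⟨c, ?_⟩
  have := congrArg IntertwiningMap.toLinearMap hc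
  rw [Algebra.algebraMap_eq_smul_one] at this
  exact this.symm

end Rep

theorem rep_induction {G : Type u} [Group G] [Finite G]
    (P : ∀ (V : Type v) [AddCommGroup V] [Module ℂ V] [FiniteDimensional ℂ V],
      Representation ℂ G V → Prop)
    (h0 : ∀ (V : Type v) [AddCommGroup V] [Module ℂ V] [FiniteDimensional ℂ V]
      (ρ : Representation ℂ G V), Subsingleton V → P V ρ)
    (hirr : ∀ (V : Type v) [AddCommGroup V] [Module ℂ V] [FiniteDimensional ℂ V]
      (ρ : Representation ℂ G V), ρ.IsIrreducible → P V ρ)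
    (hsum : ∀ (V : Type v) [AddCommGroup V] [Module ℂ V] [FiniteDimensional ℂ V]
      (ρ : Representation ℂ G V) (W W' : Subrepresentation ρ),
      IsCompl W.toSubmodule W'.toSubmodule → P _ W.toRepresentation → P _ W'.toRepresentation →
      P V ρ)
    (V : Type v) [AddCommGroup V] [Module ℂ V] [FiniteDimensional ℂ V]
    (ρ : Representation ℂ G V) : P V ρ := by
  suffices h : ∀ n : ℕ, ∀ (V : Type v) [AddCommGroup V] [Module ℂ V] [FiniteDimensional ℂ V]
      (ρ : Representation ℂ G V), finrank ℂ V = n → P V ρ from h _ V ρ rfl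
  intro n
  induction n using Nat.strong_induction_on with
  | _ n ih =>
    intro V _ _ _ ρ hn
    rcases subsingleton_or_nontrivial V with hV | hV
    · exact h0 V ρ hV
    by_cases hex : ∃ W : Subrepresentation ρ, W.toSubmodule ≠ ⊥ ∧ W.toSubmodule ≠ ⊤
    · obtain ⟨W, hW0, hW1⟩ := hex
      haveI : NeZero (Nat.card G : ℂ) := ⟨by exact_mod_cast Nat.card_pos.ne'⟩
      haveI hc : IsSemisimpleRepresentation ρ := by
        rw [isSemisimpleRepresentation_iff_isSemisimpleModule_asModule]
        infer_instance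
      obtain ⟨W', hW'⟩ := exists_isCompl W
      have hc' : IsCompl W.toSubmodule W'.toSubmodule := by
        refine ⟨disjoint_iff.2 ?_, codisjoint_iff.2 ?_⟩
        · exact congrArg Subrepresentation.toSubmodule hW'.1.eq_bot
        · exact congrArg Subrepresentation.toSubmodule hW'.2.eq_top
      have hW'1 : W'.toSubmodule ≠ ⊤ := by
        intro h
        apply hW0
        have := hc'.1.eq_bot
        rwa [h, inf_top_eq] at this
      exact hsum V ρ W W' hc' (ih _ (hn ▸ Submodule.finrank_lt hW1) _ _ rfl)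
        (ih _ (hn ▸ Submodule.finrank_lt hW'1) _ _ rfl)
    · push Not at hex
      refine hirr V ρ ?_
      refine @IsSimpleOrder.mk _ _ _ ⟨⊥, ⊤, fun h => ?_⟩ fun W => ?_
      · exact bot_ne_top (α := Submodule ℂ V) (congrArg Subrepresentation.toSubmodule h)
      · by_cases h : W.toSubmodule = ⊥
        · exact Or.inl (Subrepresentation.toSubmodule_injective h)
        · exact Or.inr (Subrepresentation.toSubmodule_injective (hex W h))

theorem char_of_isCompl {G : Type u} [Group G] {V : Type v} [AddCommGroup V] [Module ℂ V]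
    [FiniteDimensional ℂ V] (ρ : Representation ℂ G V) (W W' : Subrepresentation ρ)
    (h : IsCompl W.toSubmodule W'.toSubmodule) :
    ρ.character = W.toRepresentation.character + W'.toRepresentation.character := by
  let e := Submodule.prodEquivOfIsCompl W.toSubmodule W'.toSubmodule h
  rw [← char_prod]
  refine (Representation.char_iso (Representation.Equiv.mk e fun g => ?_)).symm
  refine LinearMap.ext fun x => ?_
  show e (W.toRepresentation g x.1, W'.toRepresentation g x.2) = ρ g (e x)
  simp [e, Subrepresentation.toRepresentation]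

/-! ### Characters as functions -/

section Fun

variable {G : Type u} [Group G]

theorem isCharacter_of_isIrrCharacter {χ : G → ℂ} (h : Cfsg.IsIrrCharacter G χ) :
    Cfsg.IsCharacter G χ := by
  obtain ⟨n, ρ, -, hρ⟩ := h
  exact ⟨n, ρ, hρ⟩

theorem isClassFunction_of_isCharacter {χ : G → ℂ} (h : Cfsg.IsCharacter G χ) :
    Cfsg.IsClassFunction G χ := by
  obtain ⟨n, ρ, rfl⟩ := h
  intro g x
  exact ρ.char_conj g x

theorem irr_isClassFunction (χ : Cfsg.IrrCharacter G) : Cfsg.IsClassFunction G (χ : G → ℂ) :=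
  isClassFunction_of_isCharacter (isCharacter_of_isIrrCharacter χ.2)

theorem isCharacter_apply_inv [Finite G] {χ : G → ℂ} (h : Cfsg.IsCharacter G χ) (g : G) :
    χ g⁻¹ = conj (χ g) := by
  obtain ⟨n, ρ, rfl⟩ := h
  exact char_inv ρ g

theorem irr_apply_inv [Finite G] (χ : Cfsg.IrrCharacter G) (g : G) :
    (χ : G → ℂ) g⁻¹ = conj ((χ : G → ℂ) g) :=
  isCharacter_apply_inv (isCharacter_of_isIrrCharacter χ.2) g

theorem isCharacter_apply_one {χ : G → ℂ} (h : Cfsg.IsCharacter G χ) :
    ∃ n : ℕ, χ 1 = n := by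
  obtain ⟨n, ρ, rfl⟩ := h
  exact ⟨n, by simp⟩

theorem irr_apply_one (χ : Cfsg.IrrCharacter G) : ∃ n : ℕ, 0 < n ∧ (χ : G → ℂ) 1 = n := by
  obtain ⟨n, ρ, hρ, h⟩ := χ.2
  refine ⟨n, ?_, by rw [← h]; simp⟩
  simpa using finrank_pos_of_isIrreducible ρ

theorem irr_one_ne_zero (χ : Cfsg.IrrCharacter G) : (χ : G → ℂ) 1 ≠ 0 := by
  obtain ⟨n, hn, h⟩ := irr_apply_one χ
  rw [h]; exact_mod_cast hn.ne'

theorem isCharacter_zero : Cfsg.IsCharacter G (0 : G → ℂ) := by
  refine ⟨0, 1, ?_⟩
  funext g
  simp [Representation.character]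

theorem isCharacter_add {χ ψ : G → ℂ} (hχ : Cfsg.IsCharacter G χ) (hψ : Cfsg.IsCharacter G ψ) :
    Cfsg.IsCharacter G (χ + ψ) := by
  obtain ⟨n, ρ, rfl⟩ := hχ
  obtain ⟨m, σ, rfl⟩ := hψ
  rw [← char_prod]
  exact isCharacter_of_rep _

theorem isCharacter_mul {χ ψ : G → ℂ} (hχ : Cfsg.IsCharacter G χ) (hψ : Cfsg.IsCharacter G ψ) :
    Cfsg.IsCharacter G (χ * ψ) := by
  obtain ⟨n, ρ, rfl⟩ := hχ
  obtain ⟨m, σ, rfl⟩ := hψ
  rw [← Representation.char_tensor]
  exact isCharacter_of_rep _

theorem isCharacter_conj [Finite G] {χ : G → ℂ} (hχ : Cfsg.IsCharacter G χ) :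
    Cfsg.IsCharacter G (fun g => conj (χ g)) := by
  obtain ⟨n, ρ, rfl⟩ := hχ
  have : (fun g => conj (ρ.character g)) = ρ.dual.character := by
    funext g; rw [Representation.char_dual, char_inv]
  rw [this]
  exact isCharacter_of_rep _

theorem isCharacter_comp {H : Type*} [Group H] {χ : G → ℂ} (hχ : Cfsg.IsCharacter G χ)
    (f : H →* G) : Cfsg.IsCharacter H (fun h => χ (f h)) := by
  obtain ⟨n, ρ, rfl⟩ := hχ
  exact ⟨n, ρ.comp f, rfl⟩

theorem isIrrCharacter_comp_of_surjective {H : Type*} [Group H] {χ : G → ℂ}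
    (hχ : Cfsg.IsIrrCharacter G χ) (f : H →* G) (hf : Function.Surjective f) :
    Cfsg.IsIrrCharacter H (fun h => χ (f h)) := by
  obtain ⟨n, ρ, hρ, rfl⟩ := hχ
  refine ⟨n, ρ.comp f, ?_, rfl⟩
  have e : Subrepresentation ρ ≃o Subrepresentation (ρ.comp f : Representation ℂ H (Fin n → ℂ)) :=
    { toFun := fun W => ⟨W.toSubmodule, fun h v hv => W.apply_mem_toSubmodule (f h) hv⟩
      invFun := fun W => ⟨W.toSubmodule, fun g v hv => by
        obtain ⟨h, rfl⟩ := hf g
        exact W.apply_mem_toSubmodule h hv⟩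
      left_inv := fun W => rfl
      right_inv := fun W => rfl
      map_rel_iff' := Iff.rfl }
  exact (OrderIso.isSimpleOrder_iff e).1 hρ

/-- A homomorphism to the nonzero scalars is an irreducible character. -/
theorem isIrrCharacter_hom (f : G →* ℂ) : Cfsg.IsIrrCharacter G (fun g => f g) := by
  let ρ : Representation ℂ G (Fin 1 → ℂ) :=
    { toFun := fun g => f g • LinearMap.id
      map_one' := by ext; simp
      map_mul' := fun a b => by ext; simp [mul_assoc, mul_left_comm] }
  refine ⟨1, ρ, ?_, ?_⟩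
  · refine @IsSimpleOrder.mk _ _ _ ⟨⊥, ⊤, fun h => ?_⟩ fun W => ?_
    · exact bot_ne_top (α := Submodule ℂ (Fin 1 → ℂ)) (congrArg Subrepresentation.toSubmodule h)
    · rcases Nat.lt_or_ge (finrank ℂ W.toSubmodule) 1 with h | h
      · exact Or.inl (Subrepresentation.toSubmodule_injective (Submodule.finrank_eq_zero.1 (by omega)))
      · refine Or.inr (Subrepresentation.toSubmodule_injective (Submodule.eq_top_of_finrank_eq ?_))
        have := Submodule.finrank_le W.toSubmodule
        simp at this ⊢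
        omega
  · funext g
    simp [Representation.character, ρ]

theorem isIrrCharacter_one : Cfsg.IsIrrCharacter G (fun _ => (1 : ℂ)) := by
  simpa using isIrrCharacter_hom (1 : G →* ℂ)

/-- The principal character. -/
def oneIrr (G : Type u) [Group G] : Cfsg.IrrCharacter G := ⟨fun _ => 1, isIrrCharacter_one⟩

@[simp] theorem oneIrr_apply (g : G) : (oneIrr G : G → ℂ) g = 1 := rfl

/-- Every character is a finite sum of irreducible characters. -/
theorem exists_list_irr [Finite G] {χ : G → ℂ} (hχ : Cfsg.IsCharacter G χ) :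
    ∃ l : List (Cfsg.IrrCharacter G), χ = (l.map fun ψ : Cfsg.IrrCharacter G => (ψ : G → ℂ)).sum := by
  obtain ⟨n, ρ, rfl⟩ := hχ
  refine rep_induction (fun V _ _ _ σ => ∃ l : List (Cfsg.IrrCharacter G),
    σ.character = (l.map fun ψ : Cfsg.IrrCharacter G => (ψ : G → ℂ)).sum) ?_ ?_ ?_ _ ρ
  · intro V _ _ _ σ hV
    refine ⟨[], funext fun g => ?_⟩
    simp [Representation.character, Subsingleton.elim (σ g) 0]
  · intro V _ _ _ σ hσ
    exact ⟨[⟨σ.character, isIrrCharacter_of_rep σ⟩], by simp⟩
  · intro V _ _ _ σ W W' h hW hW'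
    obtain ⟨l, hl⟩ := hW
    obtain ⟨l', hl'⟩ := hW'
    exact ⟨l ++ l', by rw [char_of_isCompl σ W W' h, hl, hl', List.map_append, List.sum_append]⟩

end Fun

/-! ### The inner product -/

section Inner

variable {G : Type u} [Group G] [Fintype G]

theorem classInner_add_left (a b c : G → ℂ) :
    Cfsg.classInner (a + b) c = Cfsg.classInner a c + Cfsg.classInner b c := by
  simp [Cfsg.classInner, add_mul, Finset.sum_add_distrib, mul_add]

theorem classInner_smul_left (z : ℂ) (a c : G → ℂ) :
    Cfsg.classInner (z • a) c = z * Cfsg.classInner a c := by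
  simp [Cfsg.classInner, Finset.mul_sum]
  exact Finset.sum_congr rfl fun g _ => by ring

/-- The inner product as a linear form in its first argument. -/
noncomputable def innerLeft (c : G → ℂ) : (G → ℂ) →ₗ[ℂ] ℂ where
  toFun a := Cfsg.classInner a c
  map_add' a b := classInner_add_left a b c
  map_smul' z a := classInner_smul_left z a c

@[simp] theorem innerLeft_apply (a c : G → ℂ) : innerLeft c a = Cfsg.classInner a c := rfl

theorem classInner_zero_left (c : G → ℂ) : Cfsg.classInner 0 c = 0 := (innerLeft c).map_zero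

theorem classInner_sub_left (a b c : G → ℂ) :
    Cfsg.classInner (a - b) c = Cfsg.classInner a c - Cfsg.classInner b c :=
  (innerLeft c).map_sub a b

theorem classInner_sum_left {ι : Type*} (s : Finset ι) (a : ι → G → ℂ) (c : G → ℂ) :
    Cfsg.classInner (∑ i ∈ s, a i) c = ∑ i ∈ s, Cfsg.classInner (a i) c :=
  map_sum (innerLeft c) a s

theorem classInner_conj_symm (a b : G → ℂ) :
    conj (Cfsg.classInner a b) = Cfsg.classInner b a := by
  simp [Cfsg.classInner, map_sum, mul_comm]

theorem classInner_add_right (a b c : G → ℂ) :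
    Cfsg.classInner a (b + c) = Cfsg.classInner a b + Cfsg.classInner a c := by
  rw [← classInner_conj_symm, classInner_add_left, map_add, classInner_conj_symm,
    classInner_conj_symm]

theorem classInner_smul_right (z : ℂ) (a b : G → ℂ) :
    Cfsg.classInner a (z • b) = conj z * Cfsg.classInner a b := by
  rw [← classInner_conj_symm, classInner_smul_left, map_mul, classInner_conj_symm]

theorem classInner_sum_right {ι : Type*} (s : Finset ι) (a : G → ℂ) (b : ι → G → ℂ) :
    Cfsg.classInner a (∑ i ∈ s, b i) = ∑ i ∈ s, Cfsg.classInner a (b i) := by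
  rw [← classInner_conj_symm, classInner_sum_left, map_sum]
  exact Finset.sum_congr rfl fun i _ => classInner_conj_symm _ _

theorem classInner_char_eq_finrank {V : Type v} [AddCommGroup V] [Module ℂ V]
    [FiniteDimensional ℂ V] {W : Type w} [AddCommGroup W] [Module ℂ W] [FiniteDimensional ℂ W]
    (ρ : Representation ℂ G V) (σ : Representation ℂ G W) :
    Cfsg.classInner σ.character ρ.character = finrank ℂ (IntertwiningMap ρ σ) := by
  haveI : Invertible (Nat.card G : ℂ) := invertibleOfNonzero (by exact_mod_cast Nat.card_pos.ne')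
  rw [← card_inv_mul_sum_char_mul_char_eq_finrank ρ σ]
  simp [Cfsg.classInner, char_inv]

open scoped Classical in
theorem classInner_irr (χ ψ : Cfsg.IrrCharacter G) :
    Cfsg.classInner (χ : G → ℂ) (ψ : G → ℂ) = if χ = ψ then 1 else 0 := by
  haveI : Invertible (Nat.card G : ℂ) := invertibleOfNonzero (by exact_mod_cast Nat.card_pos.ne')
  split_ifs with h
  · subst h
    obtain ⟨n, ρ, hρ, he⟩ := χ.2
    rw [← he, classInner_char_eq_finrank, IsIrreducible.finrank_intertwiningMap_self]
    simp
  · obtain ⟨n, ρ, hρ, he⟩ := χ.2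
    obtain ⟨m, σ, hσ, he'⟩ := ψ.2
    rw [← he, ← he', classInner_char_eq_finrank]
    haveI : IsEmpty (Representation.Equiv σ ρ) :=
      ⟨fun φ => h (Subtype.ext (by rw [← he, ← he', Representation.char_iso φ]))⟩
    simp [finrank_eq_zero_of_subsingleton]

theorem classInner_irr_self (χ : Cfsg.IrrCharacter G) :
    Cfsg.classInner (χ : G → ℂ) (χ : G → ℂ) = 1 := by
  classical simp [classInner_irr]

theorem classInner_irr_of_ne {χ ψ : Cfsg.IrrCharacter G} (h : χ ≠ ψ) :
    Cfsg.classInner (χ : G → ℂ) (ψ : G → ℂ) = 0 := by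
  classical simp [classInner_irr, h]

end Inner

section Complete

variable {G : Type u} [Group G]

theorem irr_linearIndependent [Finite G] :
    LinearIndependent ℂ (fun χ : Cfsg.IrrCharacter G => (χ : G → ℂ)) := by
  classical
  haveI := Fintype.ofFinite G
  rw [linearIndependent_iff']
  intro s c hc i hi
  have := congrArg (fun f => Cfsg.classInner f (i : G → ℂ)) hc
  simpa [classInner_sum_left, classInner_smul_left, classInner_irr, classInner_zero_left, hi]
    using this

instance finiteIrr [Finite G] : Finite (Cfsg.IrrCharacter G) :=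
  (irr_linearIndependent (G := G)).finite

noncomputable instance fintypeIrr [Finite G] : Fintype (Cfsg.IrrCharacter G) := Fintype.ofFinite _

theorem eq_zero_of_inner_irr_eq_zero [Fintype G] {f : G → ℂ} (hf : Cfsg.IsClassFunction G f)
    (h : ∀ χ : Cfsg.IrrCharacter G, Cfsg.classInner f (χ : G → ℂ) = 0) : f = 0 := by
  classical
  suffices hall : ∀ (V : Type u) [AddCommGroup V] [Module ℂ V] [FiniteDimensional ℂ V]
      (ρ : Representation ℂ G V), ∑ g : G, f g • ρ g⁻¹ = 0 by
    let R : Representation ℂ G (G → ℂ) :=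
      { toFun := fun g =>
          { toFun := fun φ x => φ (x * g)
            map_add' := fun _ _ => rfl
            map_smul' := fun _ _ => rfl }
        map_one' := by ext; simp
        map_mul' := fun a b => by ext; simp [mul_assoc, mul_left_comm] }
    funext x
    have := congrFun (LinearMap.congr_fun (hall _ R) (Pi.single 1 1)) x
    simpa [R, Pi.single_apply, mul_inv_eq_one] using this
  intro V _ _ _ ρ
  refine rep_induction (fun V _ _ _ ρ => ∑ g : G, f g • ρ g⁻¹ = 0) ?_ ?_ ?_ V ρ
  · intro V _ _ _ ρ hV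
    exact Subsingleton.elim _ _
  · intro V _ _ _ ρ hρ
    set T := ∑ g : G, f g • ρ g⁻¹
    have hT : ∀ x, T * ρ x = ρ x * T := by
      intro x
      simp only [T, Finset.sum_mul, Finset.mul_sum, smul_mul_assoc, mul_smul_comm, ← map_mul]
      refine Fintype.sum_equiv (MulAut.conj x⁻¹).toEquiv _ _ fun g => ?_
      simp only [MulEquiv.toEquiv_eq_coe, EquivLike.coe_coe, MulAut.conj_apply, inv_inv]
      have h1 := hf g x⁻¹
      rw [inv_inv] at h1
      rw [h1]
      congr 2
      simp [mul_assoc]
    obtain ⟨c, hc⟩ := exists_smul_id_of_commute ρ T hT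
    have htr : LinearMap.trace ℂ V T
        = (Nat.card G : ℂ) * Cfsg.classInner f ρ.character := by
      simp [T, Cfsg.classInner, Representation.character, smul_eq_mul]
      exact Finset.sum_congr rfl fun x _ => congrArg (f x * ·) (char_inv ρ x)
    rw [h ⟨ρ.character, isIrrCharacter_of_rep ρ⟩, mul_zero, hc] at htr
    have hd : (finrank ℂ V : ℂ) ≠ 0 := by exact_mod_cast (finrank_pos_of_isIrreducible ρ).ne'
    have hc0 : c = 0 := by simpa [hd] using htr
    rw [hc, hc0, zero_smul]
  · intro V _ _ _ ρ W W' hWW hW hW'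
    have key : ∀ W : Subrepresentation ρ, ∑ g : G, f g • W.toRepresentation g⁻¹ = 0 →
        ∀ w ∈ W.toSubmodule, (∑ g : G, f g • ρ g⁻¹) w = 0 := by
      intro W hW w hw
      have := congrArg Subtype.val (LinearMap.congr_fun hW ⟨w, hw⟩)
      simpa [Subrepresentation.toRepresentation, LinearMap.sum_apply] using this
    refine LinearMap.ext fun v => ?_
    obtain ⟨w, hw, w', hw', rfl⟩ :=
      Submodule.mem_sup.1 (hWW.2.eq_top.ge (Submodule.mem_top (x := v)))
    rw [map_add, key W hW w hw, key W' hW' w' hw']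
    simp

theorem isClassFunction_sum {ι : Type*} (s : Finset ι) (f : ι → G → ℂ)
    (h : ∀ i ∈ s, Cfsg.IsClassFunction G (f i)) : Cfsg.IsClassFunction G (∑ i ∈ s, f i) := by
  intro g x
  simp only [Finset.sum_apply]
  exact Finset.sum_congr rfl fun i hi => h i hi g x

theorem classFunction_expand [Fintype G] {f : G → ℂ} (hf : Cfsg.IsClassFunction G f) :
    f = ∑ χ : Cfsg.IrrCharacter G, Cfsg.classInner f (χ : G → ℂ) • (χ : G → ℂ) := by
  classical
  rw [← sub_eq_zero]
  refine eq_zero_of_inner_irr_eq_zero ?_ fun ψ => ?_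
  · intro g x
    simp [hf g x, irr_isClassFunction _ g x]
  · simp [classInner_sub_left, classInner_sum_left, classInner_smul_left, classInner_irr]

theorem classFunction_expand_finsum [Fintype G] {f : G → ℂ} (hf : Cfsg.IsClassFunction G f) :
    f = ∑ᶠ χ : Cfsg.IrrCharacter G, Cfsg.classInner f (χ : G → ℂ) • (χ : G → ℂ) := by
  rw [finsum_eq_sum_of_fintype]
  exact classFunction_expand hf

/-- Second orthogonality relation. -/
theorem sum_irr_mul_conj [Finite G] (g h : G) [Decidable (IsConj g h)] :
    ∑ χ : Cfsg.IrrCharacter G, (χ : G → ℂ) g * conj ((χ : G → ℂ) h)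
      = if IsConj g h then (Nat.card (Subgroup.centralizer ({g} : Set G)) : ℂ) else 0 := by
  classical
  haveI := Fintype.ofFinite G
  let f : G → ℂ := fun x => if IsConj h x then 1 else 0
  have hf : Cfsg.IsClassFunction G f := by
    intro x y
    have hxy : IsConj x (y * x * y⁻¹) := isConj_iff.2 ⟨y, rfl⟩
    have : IsConj h (y * x * y⁻¹) ↔ IsConj h x :=
      ⟨fun hh => hh.trans hxy.symm, fun hh => hh.trans hxy⟩
    exact if_congr this rfl rfl
  have hcard : (Finset.univ.filter fun x => IsConj h x).card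
      = (Subgroup.centralizer ({h} : Set G)).index := by
    rw [← Nat.card_eq_finsetCard]
    have : Nat.card (ConjClasses.mk h).carrier = (Subgroup.centralizer ({h} : Set G)).index := by
      rw [Nat.card_coe_set_eq, ← ConjAct.orbit_eq_carrier_conjClasses,
        ← MulAction.index_stabilizer (ConjAct G) h, Subgroup.centralizer_eq_comap_stabilizer]
      exact (Subgroup.index_comap_of_surjective (MulAction.stabilizer (ConjAct G) h)
        (f := (ConjAct.toConjAct (G := G)).toMonoidHom) ConjAct.toConjAct.surjective).symm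
    rw [← this]
    refine Nat.card_congr (Equiv.subtypeEquivRight fun x => ?_)
    rw [Finset.mem_filter_univ, ConjClasses.mem_carrier_iff_mk_eq,
      ConjClasses.mk_eq_mk_iff_isConj]
    exact isConj_comm
  have hinner : ∀ χ : Cfsg.IrrCharacter G, Cfsg.classInner f (χ : G → ℂ)
      = ((Subgroup.centralizer ({h} : Set G)).index : ℂ) / Nat.card G * conj ((χ : G → ℂ) h) := by
    intro χ
    have : ∀ x, f x * conj ((χ : G → ℂ) x) = if IsConj h x then conj ((χ : G → ℂ) h) else 0 := by
      intro x
      by_cases hx : IsConj h x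
      · obtain ⟨y, rfl⟩ := isConj_iff.1 hx
        simp [f, hx, irr_isClassFunction χ h y]
      · rw [if_neg hx]; show (if IsConj h x then (1:ℂ) else 0) * _ = 0; rw [if_neg hx, zero_mul]
    simp only [Cfsg.classInner, this, ← Finset.sum_filter, Finset.sum_const, hcard, nsmul_eq_mul]
    ring
  have hexp := congrFun (classFunction_expand hf) g
  simp only [Finset.sum_apply, Pi.smul_apply, smul_eq_mul, hinner] at hexp
  have hidx := Subgroup.index_mul_card (Subgroup.centralizer ({h} : Set G))
  have hne : ((Subgroup.centralizer ({h} : Set G)).index : ℂ) ≠ 0 := by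
    exact_mod_cast Subgroup.FiniteIndex.index_ne_zero
  have hG : (Nat.card G : ℂ) = ((Subgroup.centralizer ({h} : Set G)).index : ℂ)
      * Nat.card (Subgroup.centralizer ({h} : Set G)) := by exact_mod_cast hidx.symm
  have hC : (Nat.card (Subgroup.centralizer ({h} : Set G)) : ℂ) ≠ 0 := by
    exact_mod_cast Nat.card_pos.ne'
  have hsum : f g * Nat.card (Subgroup.centralizer ({h} : Set G))
      = ∑ χ : Cfsg.IrrCharacter G, (χ : G → ℂ) g * conj ((χ : G → ℂ) h) := by
    rw [hexp, Finset.sum_mul]
    refine Finset.sum_congr rfl fun χ _ => ?_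
    rw [hG]
    field_simp
    try ring
  rw [← hsum]
  split_ifs with hgh
  · rw [show f g = 1 from if_pos hgh.symm, one_mul]
    obtain ⟨y, rfl⟩ := isConj_iff.1 hgh
    norm_cast
    refine (Nat.card_congr ((MulAut.conj y).toEquiv.subtypeEquiv fun x => ?_)).symm
    show _ ↔ MulAut.conj y x ∈ _
    simp only [Subgroup.mem_centralizer_singleton_iff, ← MulAut.conj_apply, ← map_mul,
      (MulAut.conj y).injective.eq_iff]
  · rw [show f g = 0 from if_neg fun h' : IsConj h g => hgh h'.symm, zero_mul]

theorem sum_irr_apply_one_mul [Finite G] (g : G) [Decidable (g = 1)] :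
    ∑ χ : Cfsg.IrrCharacter G, (χ : G → ℂ) 1 * (χ : G → ℂ) g
      = if g = 1 then (Nat.card G : ℂ) else 0 := by
  classical
  have h := sum_irr_mul_conj g 1
  simp only [isConj_one_left] at h
  have h1 : ∀ χ : Cfsg.IrrCharacter G, conj ((χ : G → ℂ) 1) = (χ : G → ℂ) 1 := fun χ => by
    obtain ⟨n, -, hn⟩ := irr_apply_one χ; simp [hn]
  simp only [h1, mul_comm] at h ⊢
  rw [h]
  split_ifs with hg
  · subst hg; congr 1; simp [Subgroup.centralizer_eq_top_iff_subset, Subgroup.card_top]
  · rfl

theorem sum_irr_sq [Finite G] :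
    ∑ χ : Cfsg.IrrCharacter G, (χ : G → ℂ) 1 ^ 2 = (Nat.card G : ℂ) := by
  classical simpa [sq] using sum_irr_apply_one_mul (1 : G)

theorem isConj_of_forall_irr_eq [Finite G] {g h : G}
    (hh : ∀ χ : Cfsg.IrrCharacter G, (χ : G → ℂ) g = (χ : G → ℂ) h) : IsConj g h := by
  classical
  by_contra hc
  have h1 := sum_irr_mul_conj g h
  have h2 := sum_irr_mul_conj g g
  simp only [hh, if_neg hc] at h1 h2
  rw [h1, if_pos (IsConj.refl g)] at h2
  exact Nat.card_pos.ne' (by exact_mod_cast h2.symm)

theorem card_irr_eq_card_conjClasses [Finite G] :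
    Nat.card (Cfsg.IrrCharacter G) = Nat.card (ConjClasses G) := by
  classical
  haveI := Fintype.ofFinite G
  haveI : Finite (ConjClasses G) := Finite.of_surjective _ ConjClasses.mk_surjective
  haveI := Fintype.ofFinite (ConjClasses G)
  let L : (Cfsg.IrrCharacter G → ℂ) →ₗ[ℂ] (ConjClasses G → ℂ) :=
    { toFun := fun c C => ∑ χ : Cfsg.IrrCharacter G, c χ * (χ : G → ℂ) C.out
      map_add' := fun a b => by ext; simp [add_mul, Finset.sum_add_distrib]
      map_smul' := fun a b => by ext; simp [Finset.mul_sum, mul_assoc] }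
  have hout : ∀ g : G, IsConj (ConjClasses.mk g).out g := fun g =>
    ConjClasses.mk_eq_mk_iff_isConj.1 (Quotient.out_eq _)
  have hconst : ∀ (χ : Cfsg.IrrCharacter G) (g : G),
      (χ : G → ℂ) (ConjClasses.mk g).out = (χ : G → ℂ) g := by
    intro χ g
    obtain ⟨y, hy⟩ := isConj_iff.1 (hout g)
    rw [← irr_isClassFunction χ (ConjClasses.mk g).out y, hy]
  have hinj : Function.Injective L := by
    rw [injective_iff_map_eq_zero]
    intro c hc
    have h0 : ∑ χ : Cfsg.IrrCharacter G, c χ • (χ : G → ℂ) = 0 := by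
      funext g
      have := congrFun hc (ConjClasses.mk g)
      simpa [L, hconst] using this
    exact funext (Fintype.linearIndependent_iff.1 irr_linearIndependent c h0)
  have hsurj : Function.Surjective L := by
    intro φ
    have hf : Cfsg.IsClassFunction G (fun g => φ (ConjClasses.mk g)) := by
      intro g x
      show φ _ = φ _
      congr 1
      exact ConjClasses.mk_eq_mk_iff_isConj.2 (isConj_iff.2 ⟨x, rfl⟩).symm
    refine ⟨fun χ => Cfsg.classInner (fun g => φ (ConjClasses.mk g)) (χ : G → ℂ), ?_⟩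
    funext C
    have := congrFun (classFunction_expand hf) C.out
    have hC : ConjClasses.mk C.out = C := Quotient.out_eq C
    simp [hC] at this
    simpa [L] using this.symm
  have := (LinearEquiv.ofBijective L ⟨hinj, hsurj⟩).finrank_eq
  simpa [Nat.card_eq_fintype_card] using this

theorem isCharacter_ext [Fintype G] {f f' : G → ℂ} (hf : Cfsg.IsClassFunction G f)
    (hf' : Cfsg.IsClassFunction G f')
    (h : ∀ χ : Cfsg.IrrCharacter G, Cfsg.classInner f (χ : G → ℂ) = Cfsg.classInner f' (χ : G → ℂ)) :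
    f = f' := by
  rw [classFunction_expand hf, classFunction_expand hf']
  simp [h]

/-- Multiplicities of irreducible characters in a character are natural numbers. -/
theorem exists_nat_classInner [Fintype G] {φ : G → ℂ} (hφ : Cfsg.IsCharacter G φ)
    (χ : Cfsg.IrrCharacter G) : ∃ n : ℕ, Cfsg.classInner φ (χ : G → ℂ) = n := by
  obtain ⟨n, ρ, rfl⟩ := hφ
  obtain ⟨m, σ, -, hσ⟩ := χ.2
  exact ⟨_, by rw [← hσ, classInner_char_eq_finrank]⟩

theorem exists_nat_inner [Fintype G] {φ ψ : G → ℂ} (hφ : Cfsg.IsCharacter G φ)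
    (hψ : Cfsg.IsCharacter G ψ) : ∃ n : ℕ, Cfsg.classInner φ ψ = n := by
  obtain ⟨n, ρ, rfl⟩ := hφ
  obtain ⟨m, σ, rfl⟩ := hψ
  exact ⟨_, classInner_char_eq_finrank σ ρ⟩

theorem isCharacter_nsmul {φ : G → ℂ} (hφ : Cfsg.IsCharacter G φ) (n : ℕ) :
    Cfsg.IsCharacter G (n • φ) := by
  induction n with
  | zero => simpa using isCharacter_zero
  | succ n ih => rw [succ_nsmul]; exact isCharacter_add ih hφ

theorem isCharacter_sum {ι : Type*} (s : Finset ι) (f : ι → G → ℂ)
    (h : ∀ i ∈ s, Cfsg.IsCharacter G (f i)) : Cfsg.IsCharacter G (∑ i ∈ s, f i) := by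
  classical
  induction s using Finset.induction_on with
  | empty => simpa using isCharacter_zero
  | @insert a s ha ih =>
    rw [Finset.sum_insert ha]
    exact isCharacter_add (h a (Finset.mem_insert_self a s))
      (ih fun i hi => h i (Finset.mem_insert_of_mem hi))

theorem isCharacter_of_inner_nat [Fintype G] {f : G → ℂ} (hf : Cfsg.IsClassFunction G f)
    (h : ∀ χ : Cfsg.IrrCharacter G, ∃ n : ℕ, Cfsg.classInner f (χ : G → ℂ) = n) :
    Cfsg.IsCharacter G f := by
  choose n hn using h
  rw [classFunction_expand hf]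
  refine isCharacter_sum _ _ fun χ _ => ?_
  rw [hn χ, Nat.cast_smul_eq_nsmul]
  exact isCharacter_nsmul (isCharacter_of_isIrrCharacter χ.2) _

theorem isGeneralizedCharacter_iff_inner_int [Fintype G] {f : G → ℂ} :
    Cfsg.IsGeneralizedCharacter G f ↔ Cfsg.IsClassFunction G f ∧
      ∀ χ : Cfsg.IrrCharacter G, ∃ n : ℤ, Cfsg.classInner f (χ : G → ℂ) = n := by
  constructor
  · rintro ⟨a, b, ha, hb, rfl⟩
    refine ⟨fun g x => ?_, fun χ => ?_⟩
    · simp [isClassFunction_of_isCharacter ha g x, isClassFunction_of_isCharacter hb g x]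
    · obtain ⟨n, hn⟩ := exists_nat_classInner ha χ
      obtain ⟨m, hm⟩ := exists_nat_classInner hb χ
      exact ⟨(n : ℤ) - m, by simp [classInner_sub_left, hn, hm]⟩
  · rintro ⟨hf, h⟩
    choose n hn using h
    refine ⟨∑ χ : Cfsg.IrrCharacter G, (n χ).toNat • (χ : G → ℂ),
      ∑ χ : Cfsg.IrrCharacter G, (-n χ).toNat • (χ : G → ℂ),
      isCharacter_sum _ _ fun χ _ => isCharacter_nsmul (isCharacter_of_isIrrCharacter χ.2) _,
      isCharacter_sum _ _ fun χ _ => isCharacter_nsmul (isCharacter_of_isIrrCharacter χ.2) _, ?_⟩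
    conv_lhs => rw [classFunction_expand hf]
    rw [← Finset.sum_sub_distrib]
    refine Finset.sum_congr rfl fun χ _ => ?_
    rw [hn χ, ← Nat.cast_smul_eq_nsmul ℂ, ← Nat.cast_smul_eq_nsmul ℂ, ← sub_smul]
    congr 1
    exact_mod_cast (Int.toNat_sub_toNat_neg (n χ)).symm

end Complete

end Cfsg.Agent.Char
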